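import Cfsg.Agent.H57.ExtOrth.Line

/-!
A root element over the ground field whose plane is not in a line over the extension field gives every Eichler
transformation.
-/

set_option autoImplicit false

namespace Cfsg.Agent.H57.ExtOrth

open QuadraticMap Module Cfsg.Agent.Orthogonal
open Cfsg.Agent.H98.SubfieldOrth (SIn sIn_zero)

variable {F K V : Type*} [Field F] [Field K] [Algebra F K] [AddCommGroup V] [Module F V] [Module K V]
  [IsScalarTower F K V] {Q : QuadraticForm F V}

namespace EStr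

variable {S : EStr Q K} [FiniteDimensional K V] {X : Subgroup (O Q)} {u f : V}

theorem SIn_conj_fix {y : V} (h : SIn X u y) {g : O Q} (hg : g ∈ X) (hgu : (g : V ≃ₗ[F] V) u = u) :
    SIn X u ((g : V ≃ₗ[F] V) y - y) :=
  ((h.conj hg).congr hgu rfl).sub h

/-- The whole line of the centre. -/
theorem sIn_line (hX : S.Over X) (p : S.Pair u f) {y : V} (h : SIn X u y) (hy : S.B u y = 0)
    (hyu : ∀ k : K, y ≠ k • u) (k : K) : SIn X u (k • u) := by
  obtain ⟨z, hz, hzy⟩ : ∃ z, S.B u z = 0 ∧ S.B z y = k := by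
    by_contra hc
    push Not at hc
    refine hyu _ (p.eq_smul_of_perp fun z hz => ?_)
    by_contra h0
    refine hc ((k / S.B y z) • z) (by rw [B, polar_smul_right', ← B, hz, mul_zero]) ?_
    rw [B, polar_smul_left', polar_comm, ← B, div_mul_cancel₀ k h0]
  have e : (S.E u z p.su hz : V ≃ₗ[F] V) u = u := by simpa using S.E_smul_self p.su hz 1
  refine (SIn_conj_fix h (hX.E_mem p.su hz) e).congr rfl ?_
  rw [E_app_perp _ _ _ hy, hzy, add_sub_cancel_left]

variable [Finite K]

theorem sIn_line_all (hm : 4 ≤ finrank K V) (hX : S.Over X) (p : S.Pair u f) (hl : ∀ k : K, SIn X u (k • u)) {v : V}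
    (hv : S.QK v = 0) (k : K) : SIn X v (k • v) := by
  rcases eq_or_ne v 0 with rfl | hv0
  · exact H98.SubfieldOrth.sIn_zero_left _
  obtain ⟨n, hn, hnu⟩ := exists_map hm p.su p.ne_zero hv hv0
  refine ((hl k).conj (hX.res_mem hn)).congr (by rw [res_app, hnu]) ?_
  rw [res_app, map_smul, hnu]

omit [IsScalarTower F K V] [FiniteDimensional K V] [Finite K] in
theorem exists_ker_mul {k : K} (hk : ∀ c : F, k ≠ algebraMap F K c) : ∃ b : K, S.τ b = 0 ∧ S.τ (k * b) = 1 := by
  by_contra hc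
  push Not at hc
  have h0 : ∀ b, S.τ b = 0 → S.τ (k * b) = 0 := fun b hb => by
    by_contra hne
    refine hc ((S.τ (k * b))⁻¹ • b) (by rw [map_smul, hb, smul_zero]) ?_
    rw [mul_smul_comm, map_smul, smul_eq_mul, inv_mul_cancel₀ hne]
  obtain ⟨b₁, hb₁⟩ := S.exists_tau_ne
  refine hk (S.τ (k * b₁) / S.τ b₁) (S.eq_of_tau fun s => ?_)
  have h1 := h0 (s - (S.τ s / S.τ b₁) • b₁) (by rw [map_sub, map_smul, smul_eq_mul, div_mul_cancel₀ _ hb₁, sub_self])
  rw [mul_sub, mul_smul_comm, map_sub, map_smul, smul_eq_mul, sub_eq_zero] at h1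
  rw [mul_comm s k, h1, Algebra.algebraMap_eq_smul_one, mul_smul_comm, mul_one, map_smul, smul_eq_mul]
  ring

omit [IsScalarTower F K V] [FiniteDimensional K V] [Finite K] in
/-- Conjugating by a root element of a line meeting the pair. -/
theorem sIn_out (p : S.Pair u f) (hall : ∀ v, S.QK v = 0 → ∀ k : K, SIn X v (k • v)) {β k b : K} (hβ : S.τ β = 0)
    (hβ0 : β ≠ 0) (hkβ : S.τ (k * β) = 0) (hb : S.τ b = 0) (hkb : S.τ (k * b) = 1) {y ζ : V}
    (hy : SIn X u y) (hyu : S.B u y = 0) (hyf : S.B f y = 0) (hζu : S.B u ζ = 0) (hζf : S.B f ζ = 0)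
    (hζy : S.B ζ y = b) : SIn X u (ζ + β • f) := by
  set α := -(S.QK ζ) / β with hα
  set v := α • u + β • f + ζ with hv
  have hQv : S.QK v = 0 := by
    rw [hv, map_add_polar, map_add_polar, qmap_smul, qmap_smul, p.su, p.sf, polar_add_left, polar_smul_left',
      polar_smul_left', polar_smul_left', polar_smul_right', show polar S.QK u f = 1 from p.uf,
      show polar S.QK u ζ = 0 from hζu, show polar S.QK f ζ = 0 from hζf, hα]
    field_simp; ring
  have hvu : S.B v u = β := by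
    rw [hv, B, polar_add_left, polar_add_left, polar_smul_left', polar_smul_left', ← B, ← B, ← B, p.uu, p.fu,
      B, polar_comm, ← B, hζu]
    ring
  have hvy : S.B v y = b := by
    rw [hv, B, polar_add_left, polar_add_left, polar_smul_left', polar_smul_left', ← B, ← B, ← B, hyu, hyf, hζy]
    ring
  obtain ⟨hv', hw, hm⟩ := hall v hQv k
  have e : (sie v (k • v) hv' hw : V ≃ₗ[F] V) u = u :=
    sie_fix' _ _ (by rw [S.f_eq, hvu, hβ]) (by rw [← S.tau_B, hvu, hkβ])
  have h1 : (sie v (k • v) hv' hw : V ≃ₗ[F] V) y - y = v := by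
    rw [sie_app, ← S.tau_B, hvy, hkb, S.f_eq v y, hvy, hb, zero_smul, sub_zero, mul_zero, sub_zero, one_smul,
      add_sub_cancel_left]
  have h2 := (SIn_conj_fix hy hm e).congr rfl h1
  have hQu : Q u = 0 := S.sing p.su
  obtain ⟨v', hv'', hm'⟩ := hall u p.su (-α)
  refine (h2.add ⟨v', hv'', hm'⟩).congr rfl ?_
  rw [hv]; module

/-- For a field of degree at least three every vector orthogonal over the ground field follows. -/
theorem full_of_three [FiniteDimensional F K] (hm : 4 ≤ finrank K V) (hr : 3 ≤ finrank F K)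
    (p : S.Pair u f) (hall : ∀ v, S.QK v = 0 → ∀ k : K, SIn X v (k • v)) {y₀ : V} (h : SIn X u y₀)
    (hy₀ : S.B u y₀ = 0) (hy₀u : ∀ k : K, y₀ ≠ k • u) : H98.OrthMax.Full X u := by
  have hW := S.nd.nondeg_hyperbolic_perp p.su p.sf p.uf
  have hWr := S.nd.finrank_hyperbolic_perp p.su p.sf p.uf
  set W := perp S.QK (Submodule.span K {u, f}) with hWd
  have memW : ∀ w : V, w ∈ W ↔ S.B u w = 0 ∧ S.B f w = 0 := fun w => mem_perp_span_pair S.QK
  have hrep : ∀ y : W, y ≠ 0 → ∀ c : K, ∃ ζ : W, S.B (ζ : V) (y : V) = c := fun y hy c => by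
    obtain ⟨ζ, hζ⟩ := hW.exists_polar_eq hy c
    rw [polar_restr, polar_comm] at hζ
    exact ⟨ζ, hζ⟩
  have hk : ∀ β : K, ∃ k : K, S.τ (k * β) = 0 ∧ ∀ c : F, k ≠ algebraMap F K c := by
    intro β
    by_contra hc
    push Not at hc
    have hle : LinearMap.ker (S.τ.comp (LinearMap.mulRight F β)) ≤ Submodule.span F {(1 : K)} := fun k hk => by
      obtain ⟨c, rfl⟩ := hc k hk
      exact Submodule.mem_span_singleton.2 ⟨c, (Algebra.algebraMap_eq_smul_one c).symm⟩
    have h1 := Submodule.finrank_mono hle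
    rw [finrank_span_singleton one_ne_zero] at h1
    have h2 := LinearMap.finrank_range_add_finrank_ker (S.τ.comp (LinearMap.mulRight F β))
    have h3 := Submodule.finrank_le (LinearMap.range (S.τ.comp (LinearMap.mulRight F β)))
    rw [finrank_self] at h3
    omega
  set D : Set V := {w | SIn X u w} with hD
  set y₁ := y₀ - S.B f y₀ • u with hy₁d
  have hy₁ : SIn X u y₁ := h.sub (hall u p.su _)
  have hy₁W : y₁ ∈ W := by
    rw [memW, hy₁d, B, polar_sub_right, ← B, ← B, hy₀, p.Bu_smul_u, B, polar_sub_right, ← B, ← B, p.Bf_smul_u]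
    exact ⟨sub_zero 0, sub_self _⟩
  have hy₁0 : (⟨y₁, hy₁W⟩ : W) ≠ 0 := fun e => hy₀u _ (sub_eq_zero.1 (congrArg Subtype.val e))
  have hperp : ∀ y : W, y ≠ 0 → SIn X u (y : V) → ∀ w : W, S.B (w : V) (y : V) = 0 → SIn X u (w : V) := by
    intro y hy0 hy w hw
    obtain ⟨β, hβ, hβ0⟩ : ∃ β : K, S.τ β = 0 ∧ β ≠ 0 := by
      by_contra hc
      push Not at hc
      have : Function.Injective S.τ := (injective_iff_map_eq_zero _).2 hc
      have := LinearMap.finrank_le_finrank_of_injective this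
      rw [finrank_self] at this
      omega
    obtain ⟨k, hkβ, hkF⟩ := hk β
    obtain ⟨b, hb, hkb⟩ := exists_ker_mul (S := S) hkF
    obtain ⟨ζ, hζ⟩ := hrep y hy0 b
    have hyW := (memW y).1 y.2
    have h1 := sIn_out p hall hβ hβ0 hkβ hb hkb hy hyW.1 hyW.2 ((memW _).1 (ζ + w).2).1 ((memW _).1 (ζ + w).2).2
      (by show S.B ((ζ : V) + (w : V)) y = b; rw [B, polar_add_left, ← B, ← B, hζ, hw, add_zero])
    have h2 := sIn_out p hall hβ hβ0 hkβ hb hkb hy hyW.1 hyW.2 ((memW _).1 ζ.2).1 ((memW _).1 ζ.2).2 hζ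
    exact (h1.sub h2).congr rfl (by rw [Submodule.coe_add]; abel)
  have hall' : ∀ w : W, SIn X u (w : V) := by
    intro w
    by_cases hex : ∃ y' : W, S.B (y' : V) y₁ = 0 ∧ y' ∉ Submodule.span K {(⟨y₁, hy₁W⟩ : W)}
    · obtain ⟨y', hy'1, hy'2⟩ := hex
      have hy'in : SIn X u (y' : V) := hperp _ hy₁0 hy₁ y' hy'1
      have hy'0 : y' ≠ 0 := fun e => hy'2 (e ▸ Submodule.zero_mem _)
      have hy₁' : (⟨y₁, hy₁W⟩ : W) ∉ Submodule.span K {y'} := fun e => by
        obtain ⟨c, hc⟩ := Submodule.mem_span_singleton.1 e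
        have hc0 : c ≠ 0 := fun e0 => hy₁0 (by rw [← hc, e0, zero_smul])
        exact hy'2 (Submodule.mem_span_singleton.2 ⟨c⁻¹, by rw [← hc, inv_smul_smul₀ hc0]⟩)
      obtain ⟨ψ, hψ1, hψ2⟩ := Submodule.exists_dual_map_eq_bot_of_notMem hy₁' inferInstance
      have hψy' : ψ y' = 0 := by
        have : ψ y' ∈ (Submodule.span K {y'}).map ψ := ⟨y', Submodule.mem_span_singleton_self y', rfl⟩
        rwa [hψ2, Submodule.mem_bot] at this
      obtain ⟨e, he⟩ := hW.exists_repr ψ
      have he1 : S.B (e : V) y₁ = ψ ⟨y₁, hy₁W⟩ := (polar_restr W e ⟨y₁, hy₁W⟩).symm.trans (he _)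
      have he2 : S.B (e : V) (y' : V) = 0 := (polar_restr W e y').symm.trans ((he _).trans hψy')
      set c := S.B (w : V) y₁ / ψ ⟨y₁, hy₁W⟩
      have hA : SIn X u ((w - c • e : W) : V) := hperp _ hy₁0 hy₁ _ (by
        show S.B ((w : V) - c • (e : V)) y₁ = 0
        rw [B, polar_sub_left, polar_smul_left', ← B, ← B, he1, div_mul_cancel₀ _ hψ1, sub_self])
      have hB : SIn X u ((c • e : W) : V) := hperp y' hy'0 hy'in _ (by
        show S.B (c • (e : V)) y' = 0
        rw [B, polar_smul_left', ← B, he2, mul_zero])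
      exact (hA.add hB).congr rfl (by rw [Submodule.coe_sub, sub_add_cancel])
    · push Not at hex
      obtain ⟨y', hy'1, hy'0⟩ : ∃ y' : W, S.B (y' : V) y₁ = 0 ∧ y' ≠ 0 := by
        have h2 := hW.finrank_add_perp (Submodule.span K {(⟨y₁, hy₁W⟩ : W)})
        rw [finrank_span_singleton hy₁0] at h2
        obtain ⟨y', hy', hy'0⟩ := (Submodule.ne_bot_iff _).1 (fun e =>
          (show ¬ (0 + 1 = finrank K W) by omega) (by rw [e, finrank_bot] at h2; omega) :
          perp (restr S.QK W) (Submodule.span K {(⟨y₁, hy₁W⟩ : W)}) ≠ ⊥)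
        refine ⟨y', ?_, hy'0⟩
        rw [mem_perp_span_singleton, polar_restr, polar_comm] at hy'
        exact hy'
      have hy₁y₁ : S.B y₁ y₁ = 0 := by
        obtain ⟨c, hc⟩ := Submodule.mem_span_singleton.1 (hex y' hy'1)
        have hc0 : c ≠ 0 := fun e0 => hy'0 (by rw [← hc, e0, zero_smul])
        rw [← hc, Submodule.coe_smul, B, polar_smul_left'] at hy'1
        exact (mul_eq_zero.1 hy'1).resolve_left hc0
      have hline : ∀ c : K, SIn X u ((c • (⟨y₁, hy₁W⟩ : W) : W) : V) := fun c => hperp _ hy₁0 hy₁ _ (by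
        show S.B (c • y₁) y₁ = 0
        rw [B, polar_smul_left', ← B, hy₁y₁, mul_zero])
      by_cases hd : S.B (w : V) y₁ = 0
      · obtain ⟨c, hc⟩ := Submodule.mem_span_singleton.1 (hex w hd)
        exact hc ▸ hline c
      obtain ⟨β, hβ, hβ0⟩ : ∃ β : K, S.τ β = 0 ∧ β ≠ 0 := by
        by_contra hc
        push Not at hc
        have := LinearMap.finrank_le_finrank_of_injective ((injective_iff_map_eq_zero _).2 hc)
        rw [finrank_self] at this
        omega
      obtain ⟨k, hkβ, hkF⟩ := hk β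
      obtain ⟨b, hb, hkb⟩ := exists_ker_mul (S := S) hkF
      have hwW := (memW w).1 w.2
      have hy₁uf := (memW y₁).1 hy₁W
      have hout : ∀ s : K, s ≠ 0 → SIn X u (s • (w : V) + β • f) := fun s hs => by
        refine sIn_out p hall hβ hβ0 hkβ hb hkb (hline (b / (s * S.B (w : V) y₁))) ?_ ?_ ?_ ?_ ?_
        · show S.B u (_ • y₁) = 0
          rw [B, polar_smul_right', ← B, hy₁uf.1, mul_zero]
        · show S.B f (_ • y₁) = 0
          rw [B, polar_smul_right', ← B, hy₁uf.2, mul_zero]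
        · rw [B, polar_smul_right', ← B, hwW.1, mul_zero]
        · rw [B, polar_smul_right', ← B, hwW.2, mul_zero]
        · show S.B (s • (w : V)) (_ • y₁) = b
          rw [B, polar_smul_left', polar_smul_right', ← B]
          field_simp
      refine ((hout 2 S.two).sub (hout 1 one_ne_zero)).congr rfl ?_
      module
  refine fun w hu hw => ?_
  obtain ⟨z, hzu, hzf, hwd⟩ := p.dec w
  have hz : SIn X u z := hall' ⟨z, (memW z).2 ⟨hzu, hzf⟩⟩
  have hβf : SIn X u (S.B u w • f) := by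
    rcases eq_or_ne (S.B u w) 0 with h0 | h0
    · rw [h0, zero_smul]; exact sIn_zero hu
    obtain ⟨k, hkβ, hkF⟩ := hk (S.B u w)
    obtain ⟨b, hb, hkb⟩ := exists_ker_mul (S := S) hkF
    obtain ⟨ζ, hζ⟩ := hrep _ hy₁0 b
    have hy₁uf := (memW y₁).1 hy₁W
    have h1 := sIn_out p hall (by rw [← S.f_eq]; exact hw) h0 hkβ hb hkb hy₁ hy₁uf.1 hy₁uf.2
      ((memW _).1 ζ.2).1 ((memW _).1 ζ.2).2 hζ
    exact (h1.sub (hall' ζ)).congr rfl (by abel)
  obtain ⟨_, _, hm'⟩ := ((hall u p.su (S.B f w)).add hβf |>.add hz).congr rfl hwd.symm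
  exact hm'

omit [Finite K] in
theorem squares_top (G : AddSubgroup K) (h : ∀ s : K, s * s ∈ G) (h2 : (2 : K) ≠ 0) (a : K) : a ∈ G := by
  have e : a = ((a + 1) / 2) * ((a + 1) / 2) - ((a - 1) / 2) * ((a - 1) / 2) := by field_simp; ring
  rw [e]
  exact G.sub_mem (h _) (h _)

/-- With a hyperbolic pair and an anisotropic vector beside the centre every orthogonal vector follows. -/
theorem perp_of_five (hm : 5 ≤ finrank K V) (hX : S.Over X) (p : S.Pair u f)
    (hl : ∀ k : K, SIn X u (k • u)) {y₀ : V} (h : SIn X u y₀) (hy₀ : S.B u y₀ = 0) (hy₀u : ∀ k : K, y₀ ≠ k • u)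
    (w : V) (hw : S.B u w = 0) : SIn X u w := by
  have hW := S.nd.nondeg_hyperbolic_perp p.su p.sf p.uf
  have hWr := S.nd.finrank_hyperbolic_perp p.su p.sf p.uf
  set W := perp S.QK (Submodule.span K {u, f}) with hWd
  have memW : ∀ w : V, w ∈ W ↔ S.B u w = 0 ∧ S.B f w = 0 := fun w => mem_perp_span_pair S.QK
  have hline : ∀ v : W, S.QK (v : V) = 0 → v ≠ 0 → ∀ y : V, SIn X u y → S.B (v : V) y ≠ 0 →
      ∀ k : K, SIn X u (k • (v : V)) := by
    intro v hv hv0 y hy hβ
    obtain ⟨v', hv', hvv⟩ := hW.exists_partner (u := v) hv0 (by rw [restr_apply]; exact hv)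
    have hP := hW.nondeg_hyperbolic_perp (by rw [restr_apply]; exact hv) hv' hvv
    have hPr := hW.finrank_hyperbolic_perp (by rw [restr_apply]; exact hv) hv' hvv
    obtain ⟨x, hx⟩ := Module.finrank_pos_iff_exists_ne_zero.1
      (show 0 < finrank K (perp (restr S.QK W) (Submodule.span K {v, v'})) by omega)
    obtain ⟨z, hzq⟩ := exists_anisotropic hP hx
    rw [restr_apply, restr_apply] at hzq
    have hvz : S.B (v : V) ((z : W) : V) = 0 := by
      have := ((mem_perp_span_pair _).1 z.2).1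
      rwa [polar_restr] at this
    obtain ⟨hzu, hzf⟩ := (memW _).1 (z : W).2
    obtain ⟨hvu, -⟩ := (memW _).1 v.2
    let G : AddSubgroup K :=
      { carrier := {k | SIn X u ((k * (-(2 * S.QK ((z : W) : V) * S.B (v : V) y))) • (v : V))}
        add_mem' := fun {a b} ha hb => (ha.add hb).congr rfl (by rw [← add_smul, add_mul])
        zero_mem' := (sIn_zero (S.sing p.su)).congr rfl (by rw [zero_mul, zero_smul])
        neg_mem' := fun {a} ha => ha.neg.congr rfl (by rw [← neg_smul, neg_mul]) }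
    have hG : ∀ s : K, s * s ∈ G := by
      intro s
      have hvz' : ∀ t : K, S.B (v : V) (t • ((z : W) : V)) = 0 := fun t => by rw [B, polar_smul_right', ← B, hvz, mul_zero]
      have hfix : ∀ t : K, (S.E (v : V) (t • ((z : W) : V)) hv (hvz' t) : V ≃ₗ[F] V) u = u := fun t => by
        rw [E_app_perp _ _ _ (by rw [B, polar_comm]; exact hvu), B, polar_smul_left', polar_comm,
          show polar S.QK u ((z : W) : V) = 0 from hzu, mul_zero, zero_smul, add_zero]
      refine ((SIn_conj_fix hy (hX.E_mem hv (hvz' s)) (hfix s)).add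
        (SIn_conj_fix hy (hX.E_mem hv (hvz' (-s))) (hfix (-s)))).congr rfl ?_
      rw [E_app, E_app, qmap_smul, qmap_smul, B, B, B, polar_smul_left', polar_smul_left']
      module
    intro k
    have h0 : (-(2 * S.QK ((z : W) : V) * S.B (v : V) y)) ≠ 0 :=
      neg_ne_zero.2 (mul_ne_zero (mul_ne_zero S.two hzq) hβ)
    have := squares_top G hG S.two (k / (-(2 * S.QK ((z : W) : V) * S.B (v : V) y)))
    exact this.congr rfl (by rw [div_mul_cancel₀ k h0])
  set y₁ := y₀ - S.B f y₀ • u with hy₁d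
  have hy₁ : SIn X u y₁ := h.sub (hl _)
  have hy₁W : y₁ ∈ W := by
    rw [memW, hy₁d, B, polar_sub_right, ← B, ← B, hy₀, p.Bu_smul_u, B, polar_sub_right, ← B, ← B, p.Bf_smul_u]
    exact ⟨sub_zero 0, sub_self _⟩
  have hy₁0 : (⟨y₁, hy₁W⟩ : W) ≠ 0 := fun e => hy₀u _ (sub_eq_zero.1 (congrArg Subtype.val e))
  obtain ⟨v₁, hv₁0, hv₁, hv₁y⟩ : ∃ v : W, v ≠ 0 ∧ S.QK (v : V) = 0 ∧ S.B (v : V) y₁ ≠ 0 := by
    by_contra hc
    push Not at hc
    have htop := span_singular hW (by omega) (LinearMap.ker ((restr S.QK W).polarBilin ⟨y₁, hy₁W⟩)) fun v hv => by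
      rcases eq_or_ne v 0 with rfl | hv0
      · exact Submodule.zero_mem _
      rw [LinearMap.mem_ker, QuadraticMap.polarBilin_apply_apply, polar_restr, polar_comm]
      exact hc v hv0 hv
    refine hy₁0 (hW _ fun v => ?_)
    have : v ∈ LinearMap.ker ((restr S.QK W).polarBilin ⟨y₁, hy₁W⟩) := htop ▸ Submodule.mem_top
    exact this
  have hv₁l := hline v₁ hv₁ hv₁0 y₁ hy₁ hv₁y
  let T : Submodule K W :=
    { carrier := {w | ∀ k : K, SIn X u (k • (w : V))}
      add_mem' := fun {a b} ha hb k => ((ha k).add (hb k)).congr rfl (by rw [Submodule.coe_add, smul_add])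
      zero_mem' := fun k => (sIn_zero (S.sing p.su)).congr rfl (by rw [Submodule.coe_zero, smul_zero])
      smul_mem' := fun c a ha k => (ha (k * c)).congr rfl (by rw [Submodule.coe_smul, mul_smul]) }
  have hT : T = ⊤ := span_singular hW (by omega) T fun v hv => by
    rw [restr_apply] at hv
    rcases eq_or_ne v 0 with rfl | hv0
    · exact T.zero_mem
    obtain ⟨c, hc, hcv, hcv₁⟩ := exists_common_partner hW (by omega) hv0 hv₁0 (by rw [restr_apply]; exact hv)
      (by rw [restr_apply]; exact hv₁)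
    rw [polar_restr] at hcv hcv₁
    rw [restr_apply] at hc
    have hc0 : c ≠ 0 := fun e => hcv (by rw [e, Submodule.coe_zero, polar_zero_right])
    have hcl := hline c hc hc0 v₁ (by simpa using hv₁l 1) (by rw [B, polar_comm]; exact hcv₁)
    exact hline v hv hv0 c (by simpa using hcl 1) hcv
  have hwW : w - S.B f w • u ∈ W := by
    rw [memW, B, polar_sub_right, ← B, ← B, hw, p.Bu_smul_u, B, polar_sub_right, ← B, ← B, p.Bf_smul_u]
    exact ⟨sub_zero 0, sub_self _⟩
  have h1 := (show (⟨_, hwW⟩ : W) ∈ T from hT ▸ Submodule.mem_top) 1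
  exact ((h1.congr rfl (one_smul K _)).add (hl (S.B f w))).congr rfl (sub_add_cancel _ _)

/-- The same vectors at every singular vector give the vectors orthogonal over the ground field. -/
theorem full_of_perp (hm : 5 ≤ finrank K V) (hX : S.Over X) (p : S.Pair u f)
    (hperp : ∀ w, S.B u w = 0 → SIn X u w) : H98.OrthMax.Full X u := by
  have hgood : ∀ v w, S.QK v = 0 → v ≠ 0 → S.B v w = 0 → SIn X v w := by
    intro v w hv hv0 hw
    obtain ⟨n, hn, hnu⟩ := exists_map (by omega) p.su p.ne_zero hv hv0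
    have hnw : (n : V ≃ₗ[K] V) ((n : V ≃ₗ[K] V).symm w) = w := LinearEquiv.apply_symm_apply _ _
    refine ((hperp ((n : V ≃ₗ[K] V).symm w) ?_).conj (hX.res_mem hn)).congr (by rw [res_app, hnu])
      (by rw [res_app, hnw])
    rw [B, ← O.polar_app n, hnu, hnw]; exact hw
  intro w hu hw
  obtain ⟨z, hzu, hzf, hwd⟩ := p.dec w
  have hβf : SIn X u (S.B u w • f) := by
    rcases eq_or_ne (S.B u w) 0 with h0 | h0
    · rw [h0, zero_smul]; exact sIn_zero hu
    have hW := S.nd.nondeg_hyperbolic_perp p.su p.sf p.uf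
    have hWr := S.nd.finrank_hyperbolic_perp p.su p.sf p.uf
    obtain ⟨x', hx'0, hx'⟩ := hW.exists_singular (by omega)
    obtain ⟨k₁, hk₁⟩ := S.exists_tau_ne
    obtain ⟨z', hz', hxz⟩ := hW.exists_partner hx'0 hx'
    rw [restr_apply] at hx' hz'
    rw [polar_restr] at hxz
    obtain ⟨hx'u, hx'f⟩ := (mem_perp_span_pair S.QK).1 x'.2
    obtain ⟨hz'u, hz'f⟩ := (mem_perp_span_pair S.QK).1 z'.2
    set x := S.B u w • f with hxd
    set z₂ := k₁ • (z' : V) with hz₂
    have hx0 : x ≠ 0 := smul_ne_zero h0 p.ne_zero'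
    have hz₂0 : z₂ ≠ 0 := by
      refine smul_ne_zero (fun e => hk₁ (by rw [e, map_zero])) fun e => ?_
      rw [e, polar_zero_right] at hxz
      exact one_ne_zero hxz.symm
    have hxsing := S.sing_smul p.sf (S.B u w)
    have h1 : SIn X x (x' : V) := hgood x x' hxsing hx0 (by rw [hxd, B, polar_smul_left', hx'f, mul_zero])
    have h2 : SIn X z₂ x := hgood z₂ x (S.sing_smul hz' k₁) hz₂0 (by
      rw [hxd, hz₂, B, polar_smul_left', polar_smul_right', polar_comm, hz'f, mul_zero, mul_zero])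
    set k₂ := ((S.τ k₁)⁻¹ * (S.τ k₁)⁻¹) • k₁ with hk₂
    have hk₂τ : S.τ k₂ = (S.τ k₁)⁻¹ := by rw [hk₂, map_smul, smul_eq_mul, mul_assoc, inv_mul_cancel₀ hk₁, mul_one]
    have hb : S.B u ((S.B u w)⁻¹ • (k₂ • u)) = 0 := by rw [smul_smul, p.Bu_smul_u]
    have hstep := (hperp _ hb).step h1 h2 (S.sing hxsing) (S.sing hx')
      (by rw [hxd, S.f_eq, p.Bu_smul_f, ← S.f_eq]; exact hw) (by rw [S.f_eq, B, hx'u, map_zero])
      (by rw [S.f_eq, hz₂, B, polar_smul_right', hz'u, mul_zero, map_zero])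
    have e1 : polar Q x ((S.B u w)⁻¹ • (k₂ • u)) = (S.τ k₁)⁻¹ := by
      rw [← hk₂τ, hxd, S.f_eq, B, polar_smul_left', polar_smul_right', polar_smul_right', polar_comm (⇑S.QK) f u,
        show polar S.QK u f = 1 from p.uf]
      congr 1
      field_simp
    have e2 : polar Q z₂ (x' : V) = S.τ k₁ := by
      rw [hz₂, S.f_eq, B, polar_smul_left', polar_comm, hxz, mul_one]
    rw [e1, e2, inv_mul_cancel₀ hk₁, one_smul] at hstep
    exact hstep
  obtain ⟨_, _, hm'⟩ := ((hperp _ (p.Bu_smul_u (S.B f w))).add hβf |>.add (hperp z hzu)).congr rfl hwd.symm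
  exact hm'

end EStr

end Cfsg.Agent.H57.ExtOrth
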