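import Cfsg.Agent.H57.ExtOrth.Root
import Cfsg.Agent.H57.ExtOrth.Spread
import Cfsg.Agent.H98.ExtField.Overgroup

/-!
Maximality of the normaliser of a self-adjoint field of prime degree in Ω.
-/

set_option autoImplicit false

namespace Cfsg.Agent.H57.ExtOrth

open QuadraticMap Module Cfsg.Agent.Orthogonal
open Cfsg.Agent.H98.SubfieldOrth (SIn)
open scoped Matrix

universe u₀

section Abstract

variable {F K V : Type*} [Field F] [Finite F] [Field K] [Algebra F K] [AddCommGroup V] [Module F V] [Module K V]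
  [IsScalarTower F K V] [FiniteDimensional K V] [FiniteDimensional F K] [FiniteDimensional F V]
  {Q : QuadraticForm F V} {S : EStr Q K} {X : Subgroup (O Q)}

/-- An overgroup of the isometries linear over the field with an element that is not semilinear contains every
Eichler transformation. -/
theorem EStr.sieGroup_le (hm : 4 ≤ finrank K V) (hr : (finrank F K).Prime) (hpar : 3 ≤ finrank F K ∨ 5 ≤ finrank K V)
    (hX : S.Over X) {g : O Q} (hg : g ∈ X) (hns : ¬Semi K g) : sieGroup Q ≤ X := by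
  have hKfin : Finite K := Module.finite_of_finite F
  have hn := Module.finrank_mul_finrank F K V
  have hd : 4 * finrank F K ≤ finrank F V := by
    rw [← hn, mul_comm 4]; exact Nat.mul_le_mul_left _ hm
  have hpar' : Odd (finrank F K) ∨ 5 ≤ finrank K V := hpar.imp_left fun h => hr.odd_of_ne_two (by omega)
  obtain ⟨h, hh, u₀, f₀, p₀, hfix, hne⟩ := exists_nonline hm (by omega) hpar' hX hg hns
  obtain ⟨u, x, hu0, hu, -, hux, hxu, hin⟩ := exists_root (by omega) hr hX p₀ (good_of_four hX p₀ hd) hh hfix hne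
  obtain ⟨f, p⟩ := exists_pair hu hu0
  have hl := sIn_line hX p hin hux hxu
  have hfull : H98.OrthMax.Full X u := by
    rcases hpar with h3 | h5
    · exact full_of_three hm h3 p (fun v hv k => sIn_line_all hm hX p hl hv k) hin hux hxu
    · exact full_of_perp h5 hX p (perp_of_five h5 hX p hl hin hux hxu)
  obtain ⟨c, hc⟩ := S.exists_tau_ne
  have hc0 : c ≠ 0 := fun e => hc (by rw [e, map_zero])
  obtain ⟨n, hn', hnu⟩ := exists_map hm hu hu0 (S.sing_smul p.sf c) (smul_ne_zero hc0 p.ne_zero')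
  have hfull' := hfull.map (hX.res_mem hn')
  rw [res_app, hnu] at hfull'
  refine H98.OrthMax.sieGroup_le_of_pair S.nondeg (by have := hr.two_le; omega) hfull hfull' (S.sing hu) (S.sing (S.sing_smul p.sf c)) ?_
  rwa [S.f_eq, p.Bu_smul_f]

omit [Finite F] [FiniteDimensional F K] [FiniteDimensional F V] in
/-- A root element along a line is not semilinear. -/
theorem EStr.exists_not_semi {u f : V} (p : S.Pair u f) {k : K} (hk : ∀ c : F, k ≠ algebraMap F K c) :
    ∃ (hu : Q u = 0) (hw : polar Q u (k • u) = 0), ¬Semi K (sie u (k • u) hu hw) := by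
  refine ⟨S.sing p.su, S.orth_self p.su k, fun hS => ?_⟩
  set T := sie u (k • u) (S.sing p.su) (S.orth_self p.su k)
  have happ : ∀ x, (T : V ≃ₗ[F] V) x =
      x + (algebraMap F K (S.τ (k * S.B u x)) - algebraMap F K (S.τ (S.B u x)) * k) • u := fun x => by
    rw [sie_app, S.sing (S.sing_smul p.su k), ← S.tau_B, S.f_eq u x, zero_mul, sub_zero, sub_smul, mul_smul,
      algebraMap_smul, algebraMap_smul]
    abel
  obtain ⟨b, hb, hkb⟩ := exists_ker_mul (S := S) hk
  obtain ⟨ν, hν⟩ := exists_linear p (g := T) fun y hy => by rw [happ, hy]; simp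
  have hs := shape_of_along p hν
  have hν1 : ν b = 1 := by
    have h1 := hν (b • f)
    rw [happ, p.Bu_smul_f, hb, hkb, map_one, map_zero, zero_mul, sub_zero, add_right_inj] at h1
    exact (smul_left_injective K p.ne_zero h1).symm
  have hzero := hs.eq_zero_of_twist p fun l => by
    obtain ⟨l', hl'⟩ := hS l
    have h1 := hl' f
    have h2 : (T : V ≃ₗ[F] V) f = f + ν 1 • u := by rw [hν, p.uf]
    rw [hν, h2, p.Bu_smul_f] at h1
    have h3 := congrArg (S.B u) h1
    rw [B, polar_add_right, ← B, ← B, p.Bu_smul_f, p.Bu_smul_u, add_zero, B, polar_smul_right', polar_add_right,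
      ← B, ← B, p.uf, p.Bu_smul_u, add_zero, mul_one] at h3
    rw [← h3, smul_add, smul_smul, add_right_inj] at h1
    simpa using smul_left_injective K p.ne_zero h1
  rw [hzero, LinearMap.zero_apply] at hν1
  exact zero_ne_one hν1

end Abstract

variable {F : Type u₀} [Field F] [Fintype F] {ι : Type} [Fintype ι] [DecidableEq ι]

omit [Fintype F] in
/-- A criterion for maximality in Ω of overgroups inside Ω. -/
theorem isMaximalIn_omega_le [Finite F] {Q : QuadraticForm F (ι → F)} (hQ : Nondeg Q) (hn : 5 ≤ finrank F (ι → F))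
    (S : Subgroup (GL ι F)) (hne : ∃ x ∈ commutator (O Q), H96.om Q x ∉ S)
    (hmain : ∀ X : Subgroup (O Q), X ≤ commutator (O Q) → (∀ x ∈ commutator (O Q), H96.om Q x ∈ S → x ∈ X) →
      (∃ x ∈ X, H96.om Q x ∉ S) → sieGroup Q ≤ X) :
    Cfsg.Geo.IsMaximalIn (Cfsg.Geo.omegaGL ⇑Q) (S ⊓ Cfsg.Geo.omegaGL ⇑Q) := by
  refine ⟨lt_of_le_not_ge inf_le_right fun h => ?_, fun M hM hMG => ?_⟩
  · obtain ⟨x, hx, hxS⟩ := hne
    exact hxS (h ((H96.mem_omegaGL_iff Q _).2 ⟨x, hx, rfl⟩)).1
  by_cases hMS : M ≤ S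
  · exact Or.inl (le_antisymm (le_inf hMS hMG) hM)
  refine Or.inr (le_antisymm hMG ?_)
  obtain ⟨g, hg, hgS⟩ := SetLike.not_le_iff_exists.1 hMS
  obtain ⟨x, hx, rfl⟩ := (H96.mem_omegaGL_iff Q g).1 (hMG hg)
  have hle := hmain (M.comap (H96.om Q) ⊓ commutator (O Q)) inf_le_right
    (fun y hy hyS => ⟨hM ⟨hyS, (H96.mem_omegaGL_iff Q _).2 ⟨y, hy, rfl⟩⟩, hy⟩) ⟨x, ⟨hg, hx⟩, hgS⟩
  intro g hg
  obtain ⟨y, hy, rfl⟩ := (H96.mem_omegaGL_iff Q g).1 hg
  rw [← sieGroup_eq_commutator hQ hn] at hy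
  exact (hle hy).1

/-- Maximality of the normaliser of a self-adjoint field in Ω, given the generation of Ω by every overgroup. -/
theorem isMaximalIn_ext_of (Q : QuadraticForm F (ι → F)) (hQ : Nondeg Q) (hodd : Odd (Fintype.card F))
    (K : Subalgebra F (Matrix ι ι F)) (r : ℕ) (hr : r.Prime) (hK : Cfsg.Geo.IsFieldSubalgebra r K)
    (hsa : Cfsg.Geo.IsSelfAdjointFor (QuadraticMap.polar ⇑Q) K) (hn5 : 5 ≤ finrank F (ι → F))
    (hn : 3 * r ≤ finrank F (ι → F))
    (hcore : ∀ (L : Type u₀) [Field L] [Algebra F L] [Module L (ι → F)] [IsScalarTower F L (ι → F)]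
      [FiniteDimensional F L] [FiniteDimensional L (ι → F)] (S : EStr Q L) (X : Subgroup (O Q)), finrank F L = r →
      S.Over X → X ≤ commutator (O Q) → ∀ g ∈ X, ¬Semi L g → sieGroup Q ≤ X) :
    Cfsg.Geo.IsMaximalIn (Cfsg.Geo.omegaGL ⇑Q) (Cfsg.Geo.subalgebraNormalizer K ⊓ Cfsg.Geo.omegaGL ⇑Q) := by
  classical
  have : Nonempty ι := by
    by_contra h
    rw [not_nonempty_iff] at h
    rw [Module.finrank_fintype_fun_eq_card, Fintype.card_eq_zero] at hn5
    omega
  have hfield : IsField K :=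
    { exists_pair_ne := ⟨0, 1, fun h => zero_ne_one (congrArg Subtype.val h : (0 : Matrix ι ι F) = 1)⟩
      mul_comm := fun a b => Subtype.ext (hK.comm _ a.2 _ b.2)
      mul_inv_cancel := fun {a} ha => by
        obtain ⟨y, hy, h⟩ := hK.inv a.1 a.2 (fun h => ha (Subtype.ext h))
        exact ⟨⟨y, hy⟩, Subtype.ext h⟩ }
  letI : Field K := hfield.toField
  let eA : Matrix ι ι F ≃ₐ[F] Module.End F (ι → F) := Matrix.toLinAlgEquiv'
  let ρ : K →ₐ[F] Module.End F (ι → F) := eA.toAlgHom.comp K.val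
  letI hmod : Module K (ι → F) := Module.compHom (ι → F) ρ.toRingHom
  have hsmul : ∀ (k : K) (x : ι → F), k • x = (k : Matrix ι ι F) *ᵥ x := fun k x => rfl
  haveI : @IsScalarTower F K (ι → F) Algebra.toSMul
      hmod.toDistribMulAction.toDistribSMul.toSMulZeroClass.toSMul _ := ⟨fun c k x => by
    show ((c • k : K) : Matrix ι ι F) *ᵥ x = c • ((k : Matrix ι ι F) *ᵥ x)
    exact Matrix.smul_mulVec c _ x⟩
  haveI : FiniteDimensional F K := Module.finite_of_finrank_pos (by rw [hK.finrank_eq]; exact hr.pos)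
  haveI : FiniteDimensional K (ι → F) := Module.Finite.of_restrictScalars_finite F K (ι → F)
  have h2F : (2 : F) ≠ 0 := Ring.two_ne_zero fun h => by
    have := FiniteField.even_card_of_char_two h
    have := Nat.odd_iff.1 hodd
    omega
  have h2K : (2 : K) ≠ 0 := fun h => h2F ((algebraMap F K).injective (by rw [map_ofNat, map_zero, h]))
  -- the form over the field
  obtain ⟨τ, hτ⟩ : ∃ τ : K →ₗ[F] F, τ ≠ 0 := by
    obtain ⟨τ, h1, -⟩ := Submodule.exists_dual_map_eq_bot_of_notMem (p := (⊥ : Submodule F K)) (x := (1 : K))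
      (by simp) inferInstance
    exact ⟨τ, fun h => h1 (by rw [h]; rfl)⟩
  have hsep : ∀ a : K, (∀ s : K, τ (s * a) = 0) → a = 0 := fun a h => by
    by_contra ha
    refine hτ (LinearMap.ext fun b => ?_)
    have := h (b * a⁻¹)
    rwa [mul_assoc, inv_mul_cancel₀ ha, mul_one] at this
  choose G hG _hG using fun v : ι → F => H98.ExtField.exists_factor (K := K) hτ (Q.polarBilin.flip v)
  have hGu : ∀ v u (s : K), τ (s * G v u) = polar Q (s • u) v := fun v u s => by
    rw [← polarBilin_apply', ← LinearMap.flip_apply, hG, map_smul, smul_eq_mul]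
  let B' : (ι → F) →ₗ[K] (ι → F) →ₗ[K] K :=
    { toFun := G
      map_add' := fun v v' => LinearMap.ext fun u => sub_eq_zero.1 (hsep _ fun s => by
        rw [LinearMap.add_apply, mul_sub, mul_add, map_sub, map_add, hGu, hGu, hGu, polar_add_right, sub_self])
      map_smul' := fun k v => LinearMap.ext fun u => sub_eq_zero.1 (hsep _ fun s => by
        rw [RingHom.id_apply, LinearMap.smul_apply, smul_eq_mul, mul_sub, map_sub, hGu, ← mul_assoc, hGu, mul_comm,
          mul_smul]
        simp only [hsmul]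
        rw [hsa k.1 k.2]
        exact sub_self _) }
  have hsymm : ∀ x y, B' x y = B' y x := fun x y => sub_eq_zero.1 (hsep _ fun s => by
    show τ (s * (G x y - G y x)) = 0
    rw [mul_sub, map_sub, hGu, hGu, hsmul, hsmul, hsa s.1 s.2, polar_comm, sub_self])
  let QK : QuadraticForm K (ι → F) := (2 : K)⁻¹ • LinearMap.BilinMap.toQuadraticMap B'
  have hQKB : ∀ x y, polar QK x y = B' x y := fun x y => by
    show polar ((2 : K)⁻¹ • ⇑(LinearMap.BilinMap.toQuadraticMap B')) x y = _
    rw [QuadraticMap.polar_smul, LinearMap.BilinMap.polar_toQuadraticMap, hsymm y x, smul_eq_mul]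
    field_simp
    ring
  let S : EStr Q K :=
    { QK := QK
      τ := τ
      τ_ne := hτ
      comp := fun x => by
        have h1 : τ (G x x) = polar Q x x := by simpa using hGu x x 1
        show Q x = τ ((2 : K)⁻¹ * B' x x)
        rw [show ((2 : K)⁻¹ * B' x x) = (2 : F)⁻¹ • B' x x by rw [Algebra.smul_def, map_inv₀, map_ofNat],
          map_smul, show B' x x = G x x from rfl, h1, polar_self', smul_eq_mul, inv_mul_cancel_left₀ h2F]
      nd := fun x hx => hQ x fun y => by
        have h1 := hGu x y 1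
        rw [one_mul, one_smul, polar_comm] at h1
        rw [← h1, show G x y = B' x y from rfl, ← hQKB, hx, map_zero]
      two := h2K }
  -- semilinear maps normalise the field
  have hnorm : ∀ x : O Q, Semi K x → H96.om Q x ∈ Cfsg.Geo.subalgebraNormalizer K := by
    intro x hx
    set g := H96.om Q x with hg
    have hmem : ∀ k ∈ K, (g : Matrix ι ι F) * k * ((g⁻¹ : GL ι F) : Matrix ι ι F) ∈ K := by
      intro k hk
      obtain ⟨k', hk'⟩ := hx ⟨k, hk⟩
      have hgk : (g : Matrix ι ι F) * k = (k' : Matrix ι ι F) * g := Matrix.ext_iff_mulVec.2 fun v => by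
        simp only [← Matrix.mulVec_mulVec, hg, H96.om_mulVec]
        exact hk' v
      rw [hgk, mul_assoc, ← Units.val_mul, mul_inv_cancel, Units.val_one, mul_one]
      exact k'.2
    intro k
    refine ⟨hmem k, fun hk => ?_⟩
    haveI : Finite K := Module.finite_of_finite F
    let φ : K → K := fun k => ⟨_, hmem k k.2⟩
    have hφ : Function.Surjective φ := Finite.injective_iff_surjective.1 fun k₁ k₂ e => Subtype.ext
      ((Units.mul_right_inj g).1 ((Units.mul_left_inj (g⁻¹)).1 (congrArg Subtype.val e)))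
    obtain ⟨⟨k', hk'⟩, e⟩ := hφ ⟨_, hk⟩
    exact (show k' = k from (Units.mul_right_inj g).1 ((Units.mul_left_inj (g⁻¹)).1 (congrArg Subtype.val e))) ▸ hk'
  have hnorm' : ∀ x : O Q, H96.om Q x ∈ Cfsg.Geo.subalgebraNormalizer K → Semi K x := by
    intro x hx k
    refine ⟨⟨_, (hx k.1).1 k.2⟩, fun v => ?_⟩
    show (x : (ι → F) ≃ₗ[F] (ι → F)) ((k : Matrix ι ι F) *ᵥ v) = ((H96.om Q x : Matrix ι ι F) * (k : Matrix ι ι F) *
      (((H96.om Q x)⁻¹ : GL ι F) : Matrix ι ι F)) *ᵥ (x : (ι → F) ≃ₗ[F] (ι → F)) v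
    simp only [← H96.om_mulVec, Matrix.mulVec_mulVec, mul_assoc, ← Units.val_mul, inv_mul_cancel, Units.val_one, mul_one]
  -- dimensions
  have hmul := Module.finrank_mul_finrank F K (ι → F)
  rw [hK.finrank_eq] at hmul
  have hm : 3 ≤ finrank K (ι → F) := Nat.le_of_mul_le_mul_left (by rw [hmul, mul_comm]; exact hn) hr.pos
  refine isMaximalIn_omega_le hQ hn5 _ ?_ fun X hXc hXS ⟨g, hgX, hgS⟩ => ?_
  · have : Finite K := Module.finite_of_finite F
    obtain ⟨u, hu0, hu⟩ := S.nd.exists_singular (by omega)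
    obtain ⟨f, p⟩ := EStr.exists_pair hu hu0
    obtain ⟨k, hk⟩ : ∃ k : K, ∀ c : F, k ≠ algebraMap F K c := by
      by_contra hc
      push Not at hc
      have h1 : (⊤ : Submodule F K) ≤ Submodule.span F {(1 : K)} := fun k _ => by
        obtain ⟨c, rfl⟩ := hc k
        exact Submodule.mem_span_singleton.2 ⟨c, (Algebra.algebraMap_eq_smul_one c).symm⟩
      have h2 := Submodule.finrank_mono h1
      rw [finrank_top, finrank_span_singleton one_ne_zero, hK.finrank_eq] at h2
      have := hr.two_le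
      omega
    obtain ⟨hu', hw, hT⟩ := S.exists_not_semi p hk
    exact ⟨_, H98.OrthMax.sie_mem_commutator hQ hn5 hu' hw, fun h => hT (hnorm' _ h)⟩
  · exact hcore K S X hK.finrank_eq (fun s hs hlin => hXS s hs (hnorm s fun k => ⟨k, hlin k⟩)) hXc g hgX
      fun h => hgS (hnorm g h)

/-- Maximality of the normaliser of a self-adjoint field in Ω. -/
theorem isMaximalIn_ext (Q : QuadraticForm F (ι → F)) (hQ : Nondeg Q) (hodd : Odd (Fintype.card F))
    (K : Subalgebra F (Matrix ι ι F)) (r : ℕ) (hr : r.Prime) (hK : Cfsg.Geo.IsFieldSubalgebra r K)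
    (hsa : Cfsg.Geo.IsSelfAdjointFor (QuadraticMap.polar ⇑Q) K) (hn5 : 5 ≤ finrank F (ι → F))
    (hn : 4 * r ≤ finrank F (ι → F)) (hpar : 3 ≤ r ∨ 5 * r ≤ finrank F (ι → F)) :
    Cfsg.Geo.IsMaximalIn (Cfsg.Geo.omegaGL ⇑Q) (Cfsg.Geo.subalgebraNormalizer K ⊓ Cfsg.Geo.omegaGL ⇑Q) := by
  refine isMaximalIn_ext_of Q hQ hodd K r hr hK hsa hn5 (by omega) fun L _ _ _ _ _ _ S X hL hX _ g hg hns => ?_
  have hmul := Module.finrank_mul_finrank F L (ι → F)
  rw [hL] at hmul
  refine S.sieGroup_le (Nat.le_of_mul_le_mul_left (by rw [hmul, mul_comm]; exact hn) hr.pos) (hL ▸ hr) ?_ hX hg hns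
  rw [hL]
  exact hpar.imp id fun h => Nat.le_of_mul_le_mul_left (by rw [hmul, mul_comm]; exact h) hr.pos

end Cfsg.Agent.H57.ExtOrth

namespace Cfsg.Agent.H57.ExtOrth

open Module

/-- The degree of a field of matrices divides the size of the matrices. -/
theorem dvd_of_isFieldSubalgebra {F : Type*} [Field F] {ι : Type} [Fintype ι] [DecidableEq ι] [Nonempty ι]
    {K : Subalgebra F (Matrix ι ι F)} {r : ℕ} (hK : Cfsg.Geo.IsFieldSubalgebra r K) : r ∣ Fintype.card ι := by
  have hfield : IsField K :=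
    { exists_pair_ne := ⟨0, 1, fun h => zero_ne_one (congrArg Subtype.val h : (0 : Matrix ι ι F) = 1)⟩
      mul_comm := fun a b => Subtype.ext (hK.comm _ a.2 _ b.2)
      mul_inv_cancel := fun {a} ha => by
        obtain ⟨y, hy, h⟩ := hK.inv a.1 a.2 (fun h => ha (Subtype.ext h))
        exact ⟨⟨y, hy⟩, Subtype.ext h⟩ }
  letI : Field K := hfield.toField
  let ρ : K →ₐ[F] Module.End F (ι → F) :=
    (Matrix.toLinAlgEquiv' : Matrix ι ι F ≃ₐ[F] Module.End F (ι → F)).toAlgHom.comp K.val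
  letI hmod : Module K (ι → F) := Module.compHom (ι → F) ρ.toRingHom
  haveI : @IsScalarTower F K (ι → F) Algebra.toSMul
      hmod.toDistribMulAction.toDistribSMul.toSMulZeroClass.toSMul _ := ⟨fun c k x => by
    show Matrix.mulVec ((c • k : K) : Matrix ι ι F) x = c • Matrix.mulVec (k : Matrix ι ι F) x
    exact Matrix.smul_mulVec c _ x⟩
  have h := Module.finrank_mul_finrank F K (ι → F)
  rw [hK.finrank_eq, Module.finrank_fintype_fun_eq_card] at h
  exact ⟨_, h.symm⟩

end Cfsg.Agent.H57.ExtOrth
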