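import Cfsg.Agent.H98.SubfieldOrth.Basic
import Cfsg.Agent.H98.OrthMax.Roots

/-!
Orthogonal groups over an extension field seen over the ground field: restriction of scalars,
Eichler transformations over the extension, and lines.
-/

set_option autoImplicit false

namespace Cfsg.Agent.H57.ExtOrth

open QuadraticMap Module Cfsg.Agent.Orthogonal
open Cfsg.Agent.H98.SubfieldOrth (SIn)
open scoped commutatorElement

variable {F K V : Type*} [Field F] [Field K] [Algebra F K] [AddCommGroup V] [Module F V] [Module K V]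

/-- A quadratic form over `K` whose trace form is `Q`. -/
structure EStr (Q : QuadraticForm F V) (K : Type*) [Field K] [Algebra F K] [Module K V] where
  QK : QuadraticForm K V
  τ : K →ₗ[F] F
  τ_ne : τ ≠ 0
  comp : ∀ x, Q x = τ (QK x)
  nd : Nondeg QK
  two : (2 : K) ≠ 0

variable (K) in
/-- `g` is semilinear over `K`. -/
def Semi {Q : QuadraticForm F V} (g : O Q) : Prop :=
  ∀ k : K, ∃ k' : K, ∀ x, (g : V ≃ₗ[F] V) (k • x) = k' • (g : V ≃ₗ[F] V) x

variable {Q : QuadraticForm F V}

namespace EStr

variable (S : EStr Q K)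

/-- The symmetric form over `K`. -/
abbrev B (x y : V) : K := polar S.QK x y

theorem f_eq (x y : V) : polar Q x y = S.τ (S.B x y) := by
  simp only [polar, B, S.comp, map_sub]

theorem eq_zero_of_tau {a : K} (h : ∀ s, S.τ (s * a) = 0) : a = 0 := by
  by_contra ha
  refine S.τ_ne (LinearMap.ext fun b => ?_)
  have := h (b * a⁻¹)
  rwa [mul_assoc, inv_mul_cancel₀ ha, mul_one] at this

theorem eq_of_tau {a b : K} (h : ∀ s, S.τ (s * a) = S.τ (s * b)) : a = b :=
  sub_eq_zero.1 (S.eq_zero_of_tau fun s => by rw [mul_sub, map_sub, h, sub_self])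

theorem exists_tau_ne : ∃ k : K, S.τ k ≠ 0 := by
  by_contra h
  push Not at h
  exact S.τ_ne (LinearMap.ext h)

/-- The trace of a multiple of the form over `K`. -/
theorem tau_B (a : K) (x y : V) : S.τ (a * S.B x y) = polar Q (a • x) y := by
  rw [S.f_eq, B, B, polar_smul_left']

/-- Every functional on `K` is a multiplication followed by `τ`. -/
theorem exists_rep [FiniteDimensional F K] (l : K →ₗ[F] F) : ∃ e : K, ∀ x, l x = S.τ (e * x) := by
  let Φ : K →ₗ[F] (K →ₗ[F] F) := (LinearMap.mul F K).compr₂ S.τ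
  have hinj : Function.Injective Φ := by
    rw [injective_iff_map_eq_zero]
    exact fun a ha => S.eq_zero_of_tau fun s => by rw [mul_comm]; exact LinearMap.congr_fun ha s
  obtain ⟨e, he⟩ := (LinearMap.injective_iff_surjective_of_finrank_eq_finrank (f := Φ)
    (Subspace.dual_finrank_eq (K := F) (V := K)).symm).1 hinj l
  exact ⟨e, fun x => (LinearMap.congr_fun he x).symm⟩

/-- Orthogonality to a whole line over `K` is orthogonality over `K`. -/
theorem B_eq_zero_iff {u y : V} : S.B u y = 0 ↔ ∀ a : K, polar Q (a • u) y = 0 := by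
  refine ⟨fun h a => ?_, fun h => S.eq_zero_of_tau fun a => ?_⟩
  · rw [S.f_eq, B, polar_smul_left', show polar S.QK u y = 0 from h, mul_zero, map_zero]
  · have := h a
    rwa [S.f_eq, B, polar_smul_left'] at this

include S in
theorem nondeg : Nondeg Q := fun x hx => S.nd x fun y => S.eq_zero_of_tau fun s => by
  have := hx (s • y)
  rwa [S.f_eq, B, polar_smul_right'] at this

theorem sing {u : V} (hu : S.QK u = 0) : Q u = 0 := by rw [S.comp, hu, map_zero]

theorem sing_smul {u : V} (hu : S.QK u = 0) (a : K) : S.QK (a • u) = 0 := by rw [qmap_smul, hu, mul_zero]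

theorem B_self {u : V} (hu : S.QK u = 0) : S.B u u = 0 := by rw [B, polar_self', hu, mul_zero]

theorem orth_self {u : V} (hu : S.QK u = 0) (a : K) : polar Q u (a • u) = 0 := by
  rw [S.f_eq, B, polar_smul_right', polar_self', hu, mul_zero, mul_zero, map_zero]

variable [IsScalarTower F K V]

/-- Restriction of scalars. -/
def res : O S.QK →* O Q where
  toFun g := ⟨(g : V ≃ₗ[K] V).restrictScalars F, fun x => by
    rw [S.comp, S.comp, LinearEquiv.restrictScalars_apply, O.map_app]⟩
  map_one' := O.ext_app fun _ => rfl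
  map_mul' _ _ := O.ext_app fun _ => rfl

theorem res_app (g : O S.QK) (x : V) : (S.res g : V ≃ₗ[F] V) x = (g : V ≃ₗ[K] V) x := rfl

theorem res_mem_commutator {g : O S.QK} (hg : g ∈ commutator (O S.QK)) : S.res g ∈ commutator (O Q) := by
  have h := Subgroup.mem_map_of_mem S.res hg
  rw [commutator_def, Subgroup.map_commutator] at h
  exact Subgroup.commutator_mono le_top le_top h

/-- The Eichler transformation over `K`, seen over `F`. -/
noncomputable def E (u z : V) (hu : S.QK u = 0) (hz : S.B u z = 0) : O Q := S.res (sie u z hu hz)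

theorem E_app {u z : V} (hu : S.QK u = 0) (hz : S.B u z = 0) (x : V) :
    (S.E u z hu hz : V ≃ₗ[F] V) x = x + (S.B z x - S.QK z * S.B u x) • u - S.B u x • z := rfl

theorem E_app_perp {u z x : V} (hu : S.QK u = 0) (hz : S.B u z = 0) (hx : S.B u x = 0) :
    (S.E u z hu hz : V ≃ₗ[F] V) x = x + S.B z x • u := by
  rw [E_app, hx, zero_smul, sub_zero, mul_zero, sub_zero]

theorem E_smul_self {u z : V} (hu : S.QK u = 0) (hz : S.B u z = 0) (a : K) :
    (S.E u z hu hz : V ≃ₗ[F] V) (a • u) = a • u := by
  have h1 : S.B z u = 0 := by rw [B, polar_comm]; exact hz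
  rw [S.E_app_perp hu hz (by rw [B, polar_smul_right', ← B, S.B_self hu, mul_zero]), B, polar_smul_right', ← B, h1,
    mul_zero, zero_smul, add_zero]

theorem E_semi {u z : V} (hu : S.QK u = 0) (hz : S.B u z = 0) (k : K) (x : V) :
    (S.E u z hu hz : V ≃ₗ[F] V) (k • x) = k • (S.E u z hu hz : V ≃ₗ[F] V) x :=
  map_smul ((sie u z hu hz : O S.QK) : V ≃ₗ[K] V) k x

variable [FiniteDimensional K V]

omit [IsScalarTower F K V] [FiniteDimensional K V] in
/-- Eichler transformations are commutators in every dimension. -/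
theorem sie_mem_comm {u z : V} (hu : S.QK u = 0) (hz : S.B u z = 0) : sie u z hu hz ∈ commutator (O S.QK) := by
  rcases eq_or_ne u 0 with rfl | hu0
  · convert (commutator (O S.QK)).one_mem
    exact O.ext_app fun x => by rw [sie_app]; simp
  obtain ⟨f, hf, huf⟩ := S.nd.exists_partner hu0 hu
  have hfu : polar S.QK f u = 1 := by rw [polar_comm]; exact huf
  set z₀ := z + (-polar S.QK f z) • u with hz₀
  set w := (-(2 : K))⁻¹ • z₀ with hw
  have hz₀u : polar S.QK u z₀ = 0 := by
    rw [hz₀, polar_add_right, show polar S.QK u z = 0 from hz, polar_smul_right', polar_self', hu]; ring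
  have hz₀f : polar S.QK f z₀ = 0 := by rw [hz₀, polar_add_right, polar_smul_right', hfu]; ring
  have huw : polar S.QK u w = 0 := by rw [hw, polar_smul_right', hz₀u, mul_zero]
  have hfw : polar S.QK f w = 0 := by rw [hw, polar_smul_right', hz₀f, mul_zero]
  set t := rO S.QK (u + f) * rO S.QK (u - f) with ht
  have htu : (t : V ≃ₗ[K] V) u = -u := by
    have e1 : (rO S.QK (u - f) : V ≃ₗ[K] V) u = f :=
      rO_sub_swap (by rw [hu, hf]) (by rw [qmap_sub, hu, hf, huf]; simp)
    rw [ht, Subgroup.coe_mul, mul_app, e1, rO_app, map_add_polar, hu, hf, huf, polar_add_left, huf, polar_self', hf]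
    simp
  have htw : (t : V ≃ₗ[K] V) w = w := by
    rw [ht, Subgroup.coe_mul, mul_app, rO_fix (v := u - f) (by rw [polar_sub_left, huw, hfw, sub_zero]),
      rO_fix (by rw [polar_add_left, huw, hfw, add_zero])]
  have key : ⁅t, sie u w hu huw⁆ = sie u z hu hz := by
    have hu' : S.QK (-u) = 0 := by rw [QuadraticMap.map_neg, hu]
    have hw2 : polar S.QK u (-w) = 0 := by rw [polar_neg_right, huw, neg_zero]
    rw [commutatorElement_def, sie_conj, sie_inv, sie_congr _ _ hu' (by rw [polar_neg_left, huw, neg_zero]) htu htw]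
    have h1 : sie (-u) w hu' (by rw [polar_neg_left, huw, neg_zero]) = sie u (-w) hu hw2 := by
      refine (sie_congr _ _ (by rw [qmap_smul, hu, mul_zero]) (by rw [polar_smul_left', huw, mul_zero])
        (neg_one_smul K u).symm rfl).trans ((sie_smul hu huw (-1)).trans (sie_congr _ _ _ _ rfl (neg_one_smul K w)))
    rw [h1, sie_mul hu hw2 hw2]
    have hz1 : polar S.QK u (z + (-polar S.QK f z) • u) = 0 := hz₀u
    refine (sie_congr _ _ hu hz1 rfl ?_).trans (sie_add_smul hu hz _)
    rw [← hz₀, hw, ← neg_smul, ← add_smul]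
    have h2 := S.two
    rw [show -(-2 : K)⁻¹ + -(-2 : K)⁻¹ = 1 by field_simp; ring, one_smul]
  rw [← key]
  exact Subgroup.commutator_mem_commutator (Subgroup.mem_top _) (Subgroup.mem_top _)

/-- `X` contains every isometry in Ω that is linear over `K`. -/
def Over (_S : EStr Q K) (X : Subgroup (O Q)) : Prop :=
  ∀ s ∈ commutator (O Q), (∀ (k : K) (x : V), (s : V ≃ₗ[F] V) (k • x) = k • (s : V ≃ₗ[F] V) x) → s ∈ X

variable {S}

omit [FiniteDimensional K V] in
theorem Over.res_mem {X : Subgroup (O Q)} (hX : S.Over X) {g : O S.QK} (hg : g ∈ commutator (O S.QK)) :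
    S.res g ∈ X :=
  hX _ (S.res_mem_commutator hg) fun k x => map_smul (g : V ≃ₗ[K] V) k x

theorem Over.E_mem {X : Subgroup (O Q)} (hX : S.Over X) {u z : V} (hu : S.QK u = 0) (hz : S.B u z = 0) :
    S.E u z hu hz ∈ X :=
  hX.res_mem (S.sie_mem_comm hu hz)

end EStr

/-! ### Lines and semilinear maps -/

theorem semi_E_mul [IsScalarTower F K V] {S : EStr Q K} {u z : V} (hu : S.QK u = 0) (hz : S.B u z = 0) {g : O Q}
    (h : Semi K (S.E u z hu hz * g)) : Semi K g := by
  intro k
  obtain ⟨k', hk'⟩ := h k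
  refine ⟨k', fun x => ((S.E u z hu hz : O Q) : V ≃ₗ[F] V).injective ?_⟩
  have := hk' x
  simp only [Subgroup.coe_mul, mul_app] at this
  rw [this, S.E_semi]

theorem semi_res_mul [IsScalarTower F K V] {S : EStr Q K} {n : O S.QK} {g : O Q}
    (h : Semi K (S.res n * g)) : Semi K g := by
  intro k
  obtain ⟨k', hk'⟩ := h k
  refine ⟨k', fun x => ((S.res n : O Q) : V ≃ₗ[F] V).injective ?_⟩
  have := hk' x
  simp only [Subgroup.coe_mul, mul_app] at this
  rw [this, S.res_app, S.res_app, map_smul]

variable (K) in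
/-- `g` maps the line through `u` onto a line. -/
def KeepsLine (g : O Q) (u : V) : Prop :=
  ∀ k : K, ∃ k' : K, (g : V ≃ₗ[F] V) (k • u) = k' • (g : V ≃ₗ[F] V) u

/-- An alternating form on a space of odd dimension is degenerate. -/
theorem exists_alt_kernel {W : Type*} [AddCommGroup W] [Module F W] [FiniteDimensional F W] (h2 : (2 : F) ≠ 0)
    (hodd : Odd (finrank F W)) (b : LinearMap.BilinForm F W) (halt : ∀ x y, b x y + b y x = 0) :
    ∃ x ≠ 0, ∀ y, b x y = 0 := by
  by_contra hc
  push Not at hc
  have hinj : Function.Injective b := by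
    rw [injective_iff_map_eq_zero]
    intro x hx
    by_contra hx0
    obtain ⟨y, hy⟩ := hc x hx0
    exact hy (by rw [hx]; rfl)
  let v := Module.finBasis F W
  set M := LinearMap.BilinForm.toMatrix v b with hM
  have hT : M.transpose = -M := by
    ext i j
    rw [Matrix.transpose_apply, Matrix.neg_apply, hM, LinearMap.BilinForm.toMatrix_apply,
      LinearMap.BilinForm.toMatrix_apply]
    linear_combination halt (v j) (v i)
  have hdet : M.det = 0 := by
    have h := congrArg Matrix.det hT
    rw [Matrix.det_transpose, Matrix.det_neg, Fintype.card_fin, hodd.neg_one_pow, neg_one_mul] at h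
    exact (mul_eq_zero.1 (show (2 : F) * M.det = 0 by linear_combination h)).resolve_left h2
  have hnd : b.Nondegenerate := by
    refine ⟨fun x hx => hinj (LinearMap.ext fun y => by rw [hx y, map_zero, LinearMap.zero_apply]), fun y hy => ?_⟩
    exact hinj (LinearMap.ext fun x => by
      rw [map_zero, LinearMap.zero_apply]; linear_combination halt y x - hy x)
  rw [LinearMap.BilinForm.nondegenerate_iff_det_ne_zero v] at hnd
  exact hnd hdet

end Cfsg.Agent.H57.ExtOrth
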