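import Cfsg.Agent.H57.ExtOrth.Basic

/-!
A hyperbolic pair over the extension field: coordinates, and isometries that stabilise the line of its first
vector.
-/

set_option autoImplicit false

namespace Cfsg.Agent.H57.ExtOrth

open QuadraticMap Module Cfsg.Agent.Orthogonal

variable {F K V : Type*} [Field F] [Field K] [Algebra F K] [AddCommGroup V] [Module F V] [Module K V]
  {Q : QuadraticForm F V}

namespace EStr

variable (S : EStr Q K)

/-- A hyperbolic pair over `K`. -/
structure Pair (u f : V) : Prop where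
  su : S.QK u = 0
  sf : S.QK f = 0
  uf : S.B u f = 1

variable {S} {u f : V}

namespace Pair

variable (p : S.Pair u f)
include p

theorem fu : S.B f u = 1 := by rw [B, polar_comm]; exact p.uf

theorem uu : S.B u u = 0 := S.B_self p.su

theorem ff : S.B f f = 0 := S.B_self p.sf

theorem ne_zero : u ≠ 0 := fun h => one_ne_zero (α := K) (by rw [← p.uf, B, h, polar_zero_left])

theorem ne_zero' : f ≠ 0 := fun h => one_ne_zero (α := K) (by rw [← p.uf, B, h, polar_zero_right])

theorem Bu_smul_u (a : K) : S.B u (a • u) = 0 := by rw [B, polar_smul_right', ← B, p.uu, mul_zero]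

theorem Bu_smul_f (a : K) : S.B u (a • f) = a := by rw [B, polar_smul_right', ← B, p.uf, mul_one]

theorem Bf_smul_u (a : K) : S.B f (a • u) = a := by rw [B, polar_smul_right', ← B, p.fu, mul_one]

theorem Bf_smul_f (a : K) : S.B f (a • f) = 0 := by rw [B, polar_smul_right', ← B, p.ff, mul_zero]

/-- Coordinates with respect to the pair. -/
theorem dec (x : V) : ∃ z, S.B u z = 0 ∧ S.B f z = 0 ∧ x = S.B f x • u + S.B u x • f + z := by
  refine ⟨x - S.B f x • u - S.B u x • f, ?_, ?_, by module⟩
  · rw [B, polar_sub_right, polar_sub_right, ← B, ← B, ← B, p.Bu_smul_u, p.Bu_smul_f]; ring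
  · rw [B, polar_sub_right, polar_sub_right, ← B, ← B, ← B, p.Bf_smul_u, p.Bf_smul_f]; ring

/-- A vector orthogonal to the orthogonal hyperplane of `u` is a multiple of `u`. -/
theorem eq_smul_of_perp {d : V} (h : ∀ y, S.B u y = 0 → S.B d y = 0) : d = S.B f d • u := by
  refine S.nd.eq_of_polar fun x => ?_
  have h1 := h (x - S.B u x • f) (by rw [B, polar_sub_right, ← B, ← B, p.Bu_smul_f, sub_self])
  rw [B, polar_sub_right, polar_smul_right', polar_comm (⇑S.QK) d f, sub_eq_zero] at h1
  rw [h1, polar_smul_left', B, B, mul_comm]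

theorem B_eq_zero_of_self (x : V) {a : K} (h : x = a • u) : S.B u x = 0 := h ▸ p.Bu_smul_u a

variable [FiniteDimensional K V]

set_option linter.unusedSectionVars false in
/-- Functionals on the orthogonal space of the pair are given by vectors in it. -/
theorem exists_rep_perp (l : V →ₗ[K] K) (hu : l u = 0) (hf : l f = 0) :
    ∃ z, S.B u z = 0 ∧ S.B f z = 0 ∧ ∀ y, S.B z y = l y := by
  obtain ⟨z, hz⟩ := S.nd.exists_repr l
  exact ⟨z, by rw [B, polar_comm, hz, hu], by rw [B, polar_comm, hz, hf], hz⟩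

end Pair

theorem exists_pair [FiniteDimensional K V] {u : V} (hu : S.QK u = 0) (hu0 : u ≠ 0) : ∃ f, S.Pair u f := by
  obtain ⟨f, hf, huf⟩ := S.nd.exists_partner hu0 hu
  exact ⟨f, hu, hf, huf⟩

variable (S)

/-- An isometry preserves the relation of being orthogonal to a stable line. -/
theorem perp_map {h : O Q} {u : V} (hh : ∀ a : K, ∃ a' : K, (h : V ≃ₗ[F] V) (a' • u) = a • u) {y : V}
    (hy : S.B u y = 0) : S.B u ((h : V ≃ₗ[F] V) y) = 0 := by
  rw [S.B_eq_zero_iff] at hy ⊢
  intro a
  obtain ⟨a', ha'⟩ := hh a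
  rw [← ha', O.polar_app]
  exact hy a'

theorem perp_map_symm {h : O Q} {u : V} (hh : ∀ a : K, ∃ a' : K, (h : V ≃ₗ[F] V) (a • u) = a' • u) {y : V}
    (hy : S.B u ((h : V ≃ₗ[F] V) y) = 0) : S.B u y = 0 := by
  rw [S.B_eq_zero_iff] at hy ⊢
  intro a
  obtain ⟨a', ha'⟩ := hh a
  rw [← O.polar_app h, ha']
  exact hy a'

variable {S} in
/-- An isometry fixing the orthogonal hyperplane of `u` moves every vector along the line of `u`. -/
theorem Pair.move_along {u f : V} (p : S.Pair u f) {g : O Q}
    (hg : ∀ y, S.B u y = 0 → (g : V ≃ₗ[F] V) y = y) (x : V) :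
    (g : V ≃ₗ[F] V) x = x + S.B f ((g : V ≃ₗ[F] V) x - x) • u := by
  have h : (g : V ≃ₗ[F] V) x - x = S.B f ((g : V ≃ₗ[F] V) x - x) • u := by
    refine p.eq_smul_of_perp fun y hy => ?_
    rw [S.B_eq_zero_iff]
    intro a
    have hay : S.B u (a • y) = 0 := by rw [B, polar_smul_right', ← B, hy, mul_zero]
    rw [S.f_eq, B, polar_smul_left', ← polar_smul_right', ← B, ← S.f_eq, polar_sub_left]
    conv_lhs => arg 1; rw [← hg _ hay, O.polar_app]
    exact sub_self _
  rw [← h]; abel

end EStr

end Cfsg.Agent.H57.ExtOrth
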