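import Mathlib

/-!
Common zeros of quadratic functions without constant term (Chevalley–Warning).
-/

set_option autoImplicit false

namespace Cfsg.Agent.H57.ExtOrth

open MvPolynomial Module

/-- Few quadratic functions without constant term have a common nonzero zero. -/
theorem exists_common_zero {F W : Type*} [Field F] [Finite F] [AddCommGroup W] [Module F W] [FiniteDimensional F W]
    {ι : Type*} [Fintype ι] (P : ι → QuadraticMap F W F) (l : ι → W →ₗ[F] F)
    (h : 2 * Fintype.card ι < finrank F W) : ∃ w : W, w ≠ 0 ∧ ∀ i, P i w + l i w = 0 := by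
  classical
  have := Fintype.ofFinite F
  have hp : Fact (ringChar F).Prime := ⟨CharP.char_is_prime F (ringChar F)⟩
  let bW := Module.finBasis F W
  let β : ι → LinearMap.BilinMap F W F := fun k => (P k).toBilin bW
  have hβ : ∀ k v, β k v v = P k v := fun k v => by
    conv_rhs => rw [← QuadraticMap.toQuadraticMap_toBilin (P k) bW]
    rw [LinearMap.BilinMap.toQuadraticMap_apply]
  let f : ι → MvPolynomial (Fin (finrank F W)) F := fun k =>
    (∑ i, ∑ j, C (β k (bW i) (bW j)) * X i * X j) + ∑ i, C (l k (bW i)) * X i
  have hdeg : ∀ k, (f k).totalDegree ≤ 2 := fun k => by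
    refine (totalDegree_add _ _).trans (max_le ?_ ?_)
    · refine (totalDegree_finsetSum _ _).trans (Finset.sup_le fun i _ => ?_)
      refine (totalDegree_finsetSum _ _).trans (Finset.sup_le fun j _ => ?_)
      refine (totalDegree_mul _ _).trans ?_
      refine (Nat.add_le_add (totalDegree_mul _ _) le_rfl).trans ?_
      simp [totalDegree_C, totalDegree_X]
    · refine (totalDegree_finsetSum _ _).trans (Finset.sup_le fun i _ => ?_)
      refine (totalDegree_mul _ _).trans ?_
      simp [totalDegree_C, totalDegree_X]
  have hsum : (∑ k : ι, (f k).totalDegree) < Fintype.card (Fin (finrank F W)) := by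
    refine lt_of_le_of_lt (Finset.sum_le_sum (g := fun _ => 2) fun k _ => hdeg k) ?_
    simpa [mul_comm] using h
  have hdvd := char_dvd_card_solutions_of_sum_lt (p := ringChar F) (s := Finset.univ) hsum
  have heval : ∀ (x : Fin (finrank F W) → F) k,
      eval x (f k) = P k (∑ i, x i • bW i) + l k (∑ i, x i • bW i) := fun x k => by
    rw [← hβ]
    simp only [f, map_add, map_sum, LinearMap.sum_apply, map_smul, LinearMap.smul_apply, smul_eq_mul, map_mul, eval_C,
      eval_X, Finset.mul_sum]
    rw [Finset.sum_comm]
    exact congrArg₂ (· + ·) (Finset.sum_congr rfl fun i _ => Finset.sum_congr rfl fun j _ => by ring)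
      (Finset.sum_congr rfl fun i _ => by ring)
  by_contra hc
  push Not at hc
  have hone : Fintype.card {x : Fin (finrank F W) → F // ∀ k ∈ Finset.univ, eval x (f k) = 0} = 1 := by
    refine Fintype.card_eq_one_iff.mpr ⟨⟨0, fun k _ => by rw [heval]; simp⟩, fun y => Subtype.ext ?_⟩
    have h0 : ∑ i, y.1 i • bW i = 0 := by
      by_contra hne
      obtain ⟨i, hi⟩ := hc _ hne
      exact hi (by rw [← heval, y.2 i (Finset.mem_univ i)])
    funext i
    have h1 := congrArg (fun v => bW.repr v i) h0
    simp only [Module.Basis.repr_sum_self, map_zero, Finsupp.zero_apply] at h1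
    exact h1
  rw [Fintype.card_eq_nat_card] at hdvd hone
  rw [hone] at hdvd
  exact hp.out.one_lt.not_ge (Nat.le_of_dvd one_pos hdvd)

end Cfsg.Agent.H57.ExtOrth
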