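import Cfsg.Agent.H57.ExtOrth.Frame
import Cfsg.Agent.H57.ExtOrth.Zero

/-!
Among the elements fixing a singular vector and moving its line, one moves a single dimension of the line to an
orthogonal vector.
-/

set_option autoImplicit false

namespace Cfsg.Agent.H57.ExtOrth

open QuadraticMap Module Cfsg.Agent.Orthogonal

variable {F K V : Type*} [Field F] [Field K] [Algebra F K] [AddCommGroup V] [Module F V] [Module K V]
  [IsScalarTower F K V] {Q : QuadraticForm F V}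

variable (F K) in
/-- The line over `K` as a subspace over `F`. -/
def lnF (u : V) : Submodule F V := LinearMap.range ((LinearMap.toSpanSingleton K V u).restrictScalars F)

theorem mem_lnF {u v : V} : v ∈ lnF F K u ↔ ∃ k : K, k • u = v := Iff.rfl

theorem smul_mem_lnF (u : V) (k : K) : k • u ∈ lnF F K u := ⟨k, rfl⟩

theorem finrank_lnF {u : V} (hu : u ≠ 0) : finrank F (lnF F K u) = finrank F K :=
  LinearMap.finrank_range_of_inj (smul_left_injective K hu)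

variable (K) in
/-- The multipliers whose multiples of `u` stay on the line of `u`. -/
def HIn (h : O Q) (u : V) : Submodule F K :=
  (lnF F K u).comap (((h : V ≃ₗ[F] V) : V →ₗ[F] V).comp ((LinearMap.toSpanSingleton K V u).restrictScalars F))

theorem mem_HIn {h : O Q} {u : V} {a : K} : a ∈ HIn K h u ↔ ∃ k : K, k • u = (h : V ≃ₗ[F] V) (a • u) := Iff.rfl

theorem inv_app (h : O Q) (x : V) : ((h⁻¹ : O Q) : V ≃ₗ[F] V) ((h : V ≃ₗ[F] V) x) = x := by
  rw [← mul_app, ← Subgroup.coe_mul, inv_mul_cancel]; rfl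

theorem app_inv (h : O Q) (x : V) : (h : V ≃ₗ[F] V) (((h⁻¹ : O Q) : V ≃ₗ[F] V) x) = x := by
  rw [← mul_app, ← Subgroup.coe_mul, mul_inv_cancel]; rfl

theorem mem_HIn_inv {h : O Q} {u : V} {k : K} :
    k ∈ HIn K h⁻¹ u ↔ ∃ a : K, (h : V ≃ₗ[F] V) (a • u) = k • u := by
  rw [mem_HIn]
  exact ⟨fun ⟨a, ha⟩ => ⟨a, by rw [ha, app_inv]⟩, fun ⟨a, ha⟩ => ⟨a, by rw [← ha, inv_app]⟩⟩

theorem finrank_HIn_inv (h : O Q) {u : V} (hu : u ≠ 0) : finrank F (HIn K h⁻¹ u) = finrank F (HIn K h u) := by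
  let T : K →ₗ[F] V := (LinearMap.toSpanSingleton K V u).restrictScalars F
  have hT : Function.Injective T := smul_left_injective K hu
  have h1 : ((HIn K h u).map T).map ((h : V ≃ₗ[F] V) : V →ₗ[F] V) = (HIn K h⁻¹ u).map T := by
    ext x
    constructor
    · rintro ⟨_, ⟨a, ha, rfl⟩, rfl⟩
      obtain ⟨k, hk⟩ := mem_HIn.1 ha
      exact ⟨k, mem_HIn_inv.2 ⟨a, hk.symm⟩, hk⟩
    · rintro ⟨k, hk, rfl⟩
      obtain ⟨a, ha⟩ := mem_HIn_inv.1 hk
      exact ⟨_, ⟨a, mem_HIn.2 ⟨k, ha.symm⟩, rfl⟩, ha⟩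
  rw [(Submodule.equivMapOfInjective T hT (HIn K h u)).finrank_eq, (Submodule.equivMapOfInjective T hT (HIn K h⁻¹ u)).finrank_eq,
    ← h1]
  exact ((h : V ≃ₗ[F] V).finrank_map_eq _)

variable [FiniteDimensional F K]

theorem HIn_eq_top_of_inv {h : O Q} {u : V} (hu : u ≠ 0) (hh : HIn K h⁻¹ u = ⊤) : HIn K h u = ⊤ :=
  Submodule.eq_top_of_finrank_eq (by rw [← finrank_HIn_inv h hu, hh, finrank_top])

omit [FiniteDimensional F K] in
theorem keepsLine_iff {h : O Q} {u : V} (hu : (h : V ≃ₗ[F] V) u = u) : KeepsLine K h u ↔ HIn K h u = ⊤ := by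
  rw [KeepsLine, Submodule.eq_top_iff']
  refine forall_congr' fun k => ?_
  rw [mem_HIn, hu]
  exact exists_congr fun a => eq_comm

omit [FiniteDimensional F K] in
theorem fix_inv {h : O Q} {u : V} (hu : (h : V ≃ₗ[F] V) u = u) : ((h⁻¹ : O Q) : V ≃ₗ[F] V) u = u := by
  conv_lhs => rw [← hu, inv_app]

namespace EStr

variable {S : EStr Q K}

/-- `h` fixes `u`, moves its line, and no such element keeps more of it. -/
structure Max (_S : EStr Q K) (X : Subgroup (O Q)) (u : V) (h : O Q) : Prop where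
  mem : h ∈ X
  fix : (h : V ≃ₗ[F] V) u = u
  ne_top : HIn K h u ≠ ⊤
  max : ∀ h' ∈ X, (h' : V ≃ₗ[F] V) u = u → HIn K h' u ≠ ⊤ → finrank F (HIn K h' u) ≤ finrank F (HIn K h u)

variable {X : Subgroup (O Q)} {u f : V} {h : O Q}

theorem exists_max {g : O Q} (hg : g ∈ X) (hgu : (g : V ≃ₗ[F] V) u = u) (hne : ¬KeepsLine K g u) :
    ∃ h, S.Max X u h := by
  classical
  let p : ℕ → Prop := fun d => ∃ h ∈ X, (h : V ≃ₗ[F] V) u = u ∧ HIn K h u ≠ ⊤ ∧ finrank F (HIn K h u) = d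
  have hb : ∀ d, p d → d ≤ finrank F K := by
    rintro d ⟨h, -, -, -, rfl⟩
    exact Submodule.finrank_le _
  have h0 : p (finrank F (HIn K g u)) := ⟨g, hg, hgu, fun e => hne ((keepsLine_iff hgu).2 e), rfl⟩
  obtain ⟨h, hh, hu, ht, hd⟩ := Nat.findGreatest_spec (P := p) (hb _ h0) h0
  exact ⟨h, hh, hu, ht, fun h' h1 h2 h3 => hd ▸ Nat.le_findGreatest (hb _ ⟨h', h1, h2, h3, rfl⟩) ⟨h', h1, h2, h3, rfl⟩⟩

theorem Max.inv (hM : S.Max X u h) (hu : u ≠ 0) : S.Max X u h⁻¹ where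
  mem := X.inv_mem hM.mem
  fix := fix_inv hM.fix
  ne_top e := hM.ne_top (HIn_eq_top_of_inv hu e)
  max h' h1 h2 h3 := by rw [finrank_HIn_inv h hu]; exact hM.max h' h1 h2 h3

variable [FiniteDimensional K V]

/-- The image of the line is stable under the radical elements that keep the orthogonal vector. -/
theorem Max.shift (hM : S.Max X u h) (hX : S.Over X) (p : S.Pair u f) {a₀ : K}
    (hx : a₀ ∉ HIn K h u) (hxu : S.B u ((h : V ≃ₗ[F] V) (a₀ • u)) = 0) {z : V} (hz : S.B u z = 0)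
    (hzx : S.B z ((h : V ≃ₗ[F] V) (a₀ • u)) ∈ HIn K h⁻¹ u) (a : K) :
    ∃ a' : K, (S.E u z p.su hz : V ≃ₗ[F] V) ((h : V ≃ₗ[F] V) (a • u)) = (h : V ≃ₗ[F] V) (a' • u) := by
  set t := S.E u z p.su hz with ht
  set h' := h⁻¹ * t * h with hh'
  have happ : ∀ x, (h' : V ≃ₗ[F] V) x = ((h⁻¹ : O Q) : V ≃ₗ[F] V) ((t : V ≃ₗ[F] V) ((h : V ≃ₗ[F] V) x)) := fun x => rfl
  have hfix : (h' : V ≃ₗ[F] V) u = u := by
    have h1 := S.E_smul_self p.su hz 1
    rw [one_smul] at h1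
    rw [happ, hM.fix, ht, h1, fix_inv hM.fix]
  have hle : HIn K h u ≤ HIn K h' u := fun b hb => by
    obtain ⟨k, hk⟩ := mem_HIn.1 hb
    exact mem_HIn.2 ⟨b, by rw [happ, ← hk, ht, E_smul_self, hk, inv_app]⟩
  obtain ⟨b, hb⟩ := mem_HIn_inv.1 hzx
  have hnew : a₀ - b ∈ HIn K h' u := by
    refine mem_HIn.2 ⟨a₀, ?_⟩
    rw [happ, sub_smul, map_sub, hb, map_sub, ht, E_app_perp _ _ _ hxu, E_smul_self, add_sub_cancel_right, inv_app]
  have hb' : b ∈ HIn K h u := mem_HIn.2 ⟨_, hb.symm⟩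
  have htop : HIn K h' u = ⊤ := by
    by_contra hne
    have hlt : HIn K h u < HIn K h' u := lt_of_le_of_ne hle fun e => by
      rw [← e] at hnew
      exact hx (by simpa using (HIn K h u).add_mem hnew hb')
    have := Submodule.finrank_lt_finrank_of_lt hlt
    have := hM.max h' (X.mul_mem (X.mul_mem (X.inv_mem hM.mem) (hX.E_mem _ _)) hM.mem) hfix hne
    omega
  obtain ⟨a', ha'⟩ := mem_HIn.1 (htop ▸ Submodule.mem_top : a ∈ HIn K h' u)
  exact ⟨a', by rw [ha', happ, app_inv]⟩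

variable [FiniteDimensional F V]

/-- With an orthogonal image outside the line, every image is orthogonal. -/
theorem Max.image_perp (hM : S.Max X u h) (hX : S.Over X) (p : S.Pair u f)
    (hd : 4 * finrank F K ≤ finrank F V) {a₀ : K}
    (hx : a₀ ∉ HIn K h u) (hxu : S.B u ((h : V ≃ₗ[F] V) (a₀ • u)) = 0) (a : K) :
    S.B u ((h : V ≃ₗ[F] V) (a • u)) = 0 := by
  set x := (h : V ≃ₗ[F] V) (a₀ • u) with hxd
  set H := HIn K h⁻¹ u with hH
  by_contra hc
  set y := (h : V ≃ₗ[F] V) (a • u) with hy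
  set c := S.B u y with hcd
  let Φ : V →ₗ[F] K × (K ⧸ H) :=
    ((S.QK.polarBilin u).restrictScalars F).prod (H.mkQ.comp ((S.QK.polarBilin x).restrictScalars F))
  have hΦ : ∀ z, Φ z = (S.B u z, Submodule.Quotient.mk (S.B x z)) := fun z => rfl
  let W := (lnF F K u).map ((h : V ≃ₗ[F] V) : V →ₗ[F] V) ⊔ lnF F K u
  let m : V →ₗ[F] V := ((LinearMap.lsmul K V) c).restrictScalars F
  have hm : Function.Injective m := fun v w e => smul_right_injective V hc e
  have hle : (LinearMap.ker Φ).map m ≤ W := by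
    rintro _ ⟨z, hz, rfl⟩
    rw [SetLike.mem_coe, LinearMap.mem_ker, hΦ, Prod.mk_eq_zero, Submodule.Quotient.mk_eq_zero] at hz
    obtain ⟨a', ha'⟩ := hM.shift hX p hx hxu hz.1 (by rw [B, polar_comm]; exact hz.2) a
    rw [E_app, ← hy, ← hcd] at ha'
    show c • z ∈ W
    rw [show c • z = (y - (h : V ≃ₗ[F] V) (a' • u)) + (S.B z y - S.QK z * c) • u by
      rw [← ha']; abel]
    refine Submodule.add_mem_sup (Submodule.sub_mem _ ?_ ?_) (smul_mem_lnF _ _)
    · exact Submodule.mem_map_of_mem (smul_mem_lnF u a)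
    · exact Submodule.mem_map_of_mem (smul_mem_lnF u a')
  have h1 := LinearMap.finrank_range_add_finrank_ker Φ
  have h2 := Submodule.finrank_le (LinearMap.range Φ)
  have h3 := Submodule.finrank_mono hle
  rw [← (Submodule.equivMapOfInjective m hm _).finrank_eq] at h3
  have h4 := Submodule.finrank_sup_add_finrank_inf_eq ((lnF F K u).map ((h : V ≃ₗ[F] V) : V →ₗ[F] V)) (lnF F K u)
  rw [(h : V ≃ₗ[F] V).finrank_map_eq, finrank_lnF p.ne_zero] at h4
  have h6 : 1 ≤ finrank F H := by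
    refine Submodule.one_le_finrank_iff.2 ((Submodule.ne_bot_iff _).2 ⟨1, ?_, one_ne_zero⟩)
    exact mem_HIn_inv.2 ⟨1, by rw [one_smul, hM.fix]⟩
  have h7 : 1 ≤ finrank F ↥((lnF F K u).map ((h : V ≃ₗ[F] V) : V →ₗ[F] V) ⊓ lnF F K u) := by
    refine Submodule.one_le_finrank_iff.2 ((Submodule.ne_bot_iff _).2 ⟨u, ⟨?_, ⟨1, one_smul K u⟩⟩, p.ne_zero⟩)
    exact ⟨u, ⟨1, one_smul K u⟩, hM.fix⟩
  have h8 := H.finrank_quotient_add_finrank
  rw [Module.finrank_prod] at h2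
  simp only [W] at h3
  omega
/-- An orthogonal image is a scalar multiple of the chosen one modulo the line. -/
theorem Max.image_line (hM : S.Max X u h) (hX : S.Over X) (p : S.Pair u f) (hr : (finrank F K).Prime) {a₀ : K}
    (hx : a₀ ∉ HIn K h u) (hxu : S.B u ((h : V ≃ₗ[F] V) (a₀ • u)) = 0) {a : K}
    (hperp : S.B u ((h : V ≃ₗ[F] V) (a • u)) = 0) :
    ∃ (c : F) (k : K), (h : V ≃ₗ[F] V) (a • u) = c • (h : V ≃ₗ[F] V) (a₀ • u) + k • u := by
  set x := (h : V ≃ₗ[F] V) (a₀ • u) with hxd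
  set H := HIn K h⁻¹ u with hH
  have hinv : ∀ w : V, S.B u w = 0 → ∀ k : K, S.B u (k • w) = 0 := fun w hw k => by
    rw [B, polar_smul_right', ← B, hw, mul_zero]
  have hne : H ≠ ⊤ := fun e => hM.ne_top (HIn_eq_top_of_inv p.ne_zero e)
  set y := (h : V ≃ₗ[F] V) (a • u) with hy
  have hxK : ∀ k : K, x ≠ k • u := fun k e => hx (mem_HIn.2 ⟨k, e.symm⟩)
  have hmemH : ∀ z, S.B u z = 0 → S.B z x ∈ H → S.B z y ∈ H := by
    intro z hz hzx
    obtain ⟨a', ha'⟩ := hM.shift hX p hx hxu hz hzx a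
    rw [E_app_perp _ _ _ hperp] at ha'
    exact mem_HIn_inv.2 ⟨a' - a, by rw [sub_smul, map_sub, ← ha', add_sub_cancel_left]⟩
  obtain ⟨z₁, hz₁, hz₁x⟩ : ∃ z, S.B u z = 0 ∧ S.B z x = 1 := by
    by_contra hc
    push Not at hc
    refine hxK _ (p.eq_smul_of_perp fun z hz => ?_)
    by_contra h0
    exact hc _ (hinv z hz (S.B x z)⁻¹) (by rw [B, polar_smul_left', polar_comm, ← B, inv_mul_cancel₀ h0])
  set b := S.B z₁ y with hb
  have hker : ∀ z, S.B u z = 0 → S.B z x = 0 → S.B z y = 0 := by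
    intro z hz hzx
    by_contra h0
    refine hne (Submodule.eq_top_iff'.2 fun k => ?_)
    have := hmemH ((k / S.B z y) • z) (hinv z hz _) (by rw [B, polar_smul_left', ← B, hzx, mul_zero]; exact H.zero_mem)
    rwa [B, polar_smul_left', ← B, div_mul_cancel₀ k h0] at this
  have hyx : y - b • x = S.B f (y - b • x) • u := by
    refine p.eq_smul_of_perp fun z hz => ?_
    have hz' : S.B u (z - S.B z x • z₁) = 0 := by rw [B, polar_sub_right, ← B, ← B, hz, hinv z₁ hz₁, sub_zero]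
    have h1 := hker _ hz' (by rw [B, polar_sub_left, polar_smul_left', ← B, ← B, hz₁x, mul_one, sub_self])
    rw [B, polar_sub_left, polar_smul_left', ← B, ← B, ← hb] at h1
    rw [B, polar_sub_left, polar_smul_left', polar_comm (⇑S.QK) y, polar_comm (⇑S.QK) x, ← B, ← B]
    linear_combination h1
  let R : Subalgebra F K :=
    { carrier := {b | ∀ k ∈ H, k * b ∈ H}
      mul_mem' := fun {b c} hb hc k hk => by rw [← mul_assoc]; exact hc _ (hb k hk)
      one_mem' := fun k hk => by rw [mul_one]; exact hk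
      add_mem' := fun {b c} hb hc k hk => by rw [mul_add]; exact H.add_mem (hb k hk) (hc k hk)
      zero_mem' := fun k _ => by rw [mul_zero]; exact H.zero_mem
      algebraMap_mem' := fun c k hk => by
        rw [mul_comm, ← Algebra.smul_def]; exact H.smul_mem c hk }
  have hbR : b ∈ R := fun k hk => by
    have := hmemH (k • z₁) (hinv z₁ hz₁ k) (by rw [B, polar_smul_left', ← B, hz₁x, mul_one]; exact hk)
    rwa [B, polar_smul_left', ← B, ← hb] at this
  have := Subalgebra.isSimpleOrder_of_finrank_prime F K hr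
  rcases eq_bot_or_eq_top R with hR | hR
  · rw [hR, Algebra.mem_bot] at hbR
    obtain ⟨c, hc⟩ := hbR
    refine ⟨c, S.B f (y - b • x), ?_⟩
    have hcx : c • x = b • x := by rw [← hc, algebraMap_smul]
    rw [hcx, ← hyx]; abel
  · refine absurd (Submodule.eq_top_iff'.2 fun k => ?_) hne
    have h1 : (1 : K) ∈ H := mem_HIn_inv.2 ⟨1, by rw [one_smul, hM.fix]⟩
    simpa using (hR ▸ Algebra.mem_top : k ∈ R) 1 h1

/-- The two facts about maximal elements that the root construction uses. -/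
structure Good (S : EStr Q K) (X : Subgroup (O Q)) (u : V) : Prop where
  perp : ∀ h, S.Max X u h → ∀ a₀ : K, a₀ ∉ HIn K h u → S.B u ((h : V ≃ₗ[F] V) (a₀ • u)) = 0 →
    ∀ a : K, S.B u ((h : V ≃ₗ[F] V) (a • u)) = 0
  ends : ∀ h, S.Max X u h →
    ∃ h₁, S.Max X u h₁ ∧ ∃ a₀, a₀ ∉ HIn K h₁ u ∧ S.B u ((h₁ : V ≃ₗ[F] V) (a₀ • u)) = 0

/-- An element of the maximal kind with an orthogonal image outside the line. -/
theorem exists_end [Finite F] (hX : S.Over X) (p : S.Pair u f) (hd : 4 * finrank F K ≤ finrank F V)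
    (hM : S.Max X u h) : ∃ h₁, S.Max X u h₁ ∧ ∃ a₀, a₀ ∉ HIn K h₁ u ∧ S.B u ((h₁ : V ≃ₗ[F] V) (a₀ • u)) = 0 := by
  by_cases h1 : ∃ a₀, a₀ ∉ HIn K h⁻¹ u ∧ S.B u (((h⁻¹ : O Q) : V ≃ₗ[F] V) (a₀ • u)) = 0
  · exact ⟨_, hM.inv p.ne_zero, h1⟩
  push Not at h1
  obtain ⟨k₀, -, hk₀⟩ := SetLike.exists_of_lt (hM.inv p.ne_zero).ne_top.lt_top
  set y := ((h⁻¹ : O Q) : V ≃ₗ[F] V) (k₀ • u) with hy
  have hc : S.B u y ≠ 0 := h1 k₀ hk₀
  set c := S.B u y with hcd
  set L₁ := (lnF F K u).map (((h⁻¹ : O Q) : V ≃ₗ[F] V) : V →ₗ[F] V) with hL₁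
  set P := perp Q (lnF F K u ⊔ L₁) with hP
  obtain ⟨Y, hY⟩ := Submodule.exists_isCompl (L₁.comap P.subtype)
  have hPu : ∀ w ∈ P, S.B u w = 0 := fun w hw =>
    S.B_eq_zero_iff.2 fun a => hw _ (Submodule.mem_sup_left (smul_mem_lnF u a))
  have hdimA : finrank F (L₁.comap P.subtype) ≤ finrank F (HIn K h u) := by
    let T : K →ₗ[F] V := (LinearMap.toSpanSingleton K V u).restrictScalars F
    have hle : (L₁.comap P.subtype).map P.subtype ≤ (HIn K h u).map T := by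
      rintro _ ⟨w, ⟨_, ⟨k, rfl⟩, hk'⟩, rfl⟩
      have hw := hPu w w.2
      have hk'' : ((h⁻¹ : O Q) : V ≃ₗ[F] V) (k • u) = (w : V) := hk'
      by_cases hkm : k ∈ HIn K h⁻¹ u
      · obtain ⟨a, ha⟩ := mem_HIn_inv.1 hkm
        refine ⟨a, mem_HIn.2 ⟨k, ha.symm⟩, ?_⟩
        show a • u = (w : V)
        rw [← hk'', ← ha, inv_app]
      · exact absurd (by rw [hk'']; exact hw) (h1 k hkm)
    have := Submodule.finrank_mono hle
    rw [← (Submodule.equivMapOfInjective _ P.injective_subtype _).finrank_eq,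
      ← (Submodule.equivMapOfInjective T (smul_left_injective K p.ne_zero) _).finrank_eq] at this
    exact this
  have hdimP := S.nondeg.finrank_add_perp (lnF F K u ⊔ L₁)
  rw [← hP] at hdimP
  have hsup := Submodule.finrank_sup_add_finrank_inf_eq (lnF F K u) L₁
  rw [hL₁, ((h⁻¹ : O Q) : V ≃ₗ[F] V).finrank_map_eq, finrank_lnF p.ne_zero, ← hL₁] at hsup
  have hinf : finrank F (HIn K h u) ≤ finrank F ↥(lnF F K u ⊓ L₁) := by
    let T : K →ₗ[F] V := (LinearMap.toSpanSingleton K V u).restrictScalars F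
    rw [(Submodule.equivMapOfInjective T (smul_left_injective K p.ne_zero) _).finrank_eq]
    refine Submodule.finrank_mono ?_
    rintro _ ⟨a, ha, rfl⟩
    obtain ⟨k, hk⟩ := mem_HIn.1 ha
    exact ⟨smul_mem_lnF u a, k • u, smul_mem_lnF u k, show ((h⁻¹ : O Q) : V ≃ₗ[F] V) (k • u) = a • u by rw [hk, inv_app]⟩
  have hYdim := Submodule.finrank_add_eq_of_isCompl hY
  have he : 1 ≤ finrank F (HIn K h u) :=
    Submodule.one_le_finrank_iff.2 ((Submodule.ne_bot_iff _).2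
      ⟨1, mem_HIn.2 ⟨1, by rw [one_smul, hM.fix]⟩, one_ne_zero⟩)
  -- a vector whose parameter stays in the kept part
  let b := Module.finBasis F (K ⧸ HIn K h u)
  let co : Fin (finrank F (K ⧸ HIn K h u)) → K →ₗ[F] F := fun i =>
    (b.coord i).comp ((HIn K h u).mkQ.comp (LinearMap.mulLeft F c⁻¹))
  let ι : Y →ₗ[F] V := P.subtype.comp Y.subtype
  let Pq : Fin (finrank F (K ⧸ HIn K h u)) → QuadraticMap F Y F := fun i =>
    (-(co i).compQuadraticMap' S.QK).comp ι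
  let lq : Fin (finrank F (K ⧸ HIn K h u)) → Y →ₗ[F] F := fun i =>
    (co i).comp (((S.QK.polarBilin y).restrictScalars F).comp ι)
  have hquot := (HIn K h u).finrank_quotient_add_finrank
  obtain ⟨w₀, hw₀, hw₀'⟩ := exists_common_zero Pq lq (by rw [Fintype.card_fin]; omega)
  set w : V := ι w₀ with hw
  have ha : c⁻¹ * (S.B y w - S.QK w) ∈ HIn K h u := by
    rw [← Submodule.Quotient.mk_eq_zero]
    refine b.repr.injective (Finsupp.ext fun i => ?_)
    have h2 := hw₀' i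
    rw [map_zero, Finsupp.zero_apply, mul_sub]
    simp only [Pq, lq, co, ι, QuadraticMap.comp_apply, QuadraticMap.neg_apply, LinearMap.comp_apply] at h2
    rw [Submodule.Quotient.mk_sub, map_sub, Finsupp.sub_apply, sub_eq_add_neg, add_comm]
    exact h2
  have hwP : w ∈ P := (Y.subtype w₀).2
  have hwu : S.B u (c⁻¹ • w) = 0 := by rw [B, polar_smul_right', ← B, hPu w hwP, mul_zero]
  set E := S.E u (c⁻¹ • w) p.su hwu with hE
  set h₁ := h * E * h⁻¹ with hh₁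
  have happ : ∀ x, (h₁ : V ≃ₗ[F] V) x = (h : V ≃ₗ[F] V) ((E : V ≃ₗ[F] V) (((h⁻¹ : O Q) : V ≃ₗ[F] V) x)) := fun x => rfl
  have hle : HIn K h⁻¹ u ≤ HIn K h₁ u := fun k hk => by
    obtain ⟨a, ha⟩ := mem_HIn.1 hk
    exact mem_HIn.2 ⟨k, by rw [happ, ← ha, hE, E_smul_self, ha, app_inv]⟩
  have hx : (h₁ : V ≃ₗ[F] V) (k₀ • u) =
      k₀ • u + (h : V ≃ₗ[F] V) ((c⁻¹ * (S.B y w - S.QK w)) • u) - (h : V ≃ₗ[F] V) w := by
    rw [happ, ← hy, hE, E_app, ← hcd, ← mul_smul c c⁻¹, mul_inv_cancel₀ hc, one_smul, map_sub, map_add, hy, app_inv]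
    congr 4
    rw [B, B, polar_smul_left', qmap_smul, polar_comm (⇑S.QK) w]
    field_simp
  have hxu : S.B u ((h₁ : V ≃ₗ[F] V) (k₀ • u)) = 0 := by
    obtain ⟨k, hk⟩ := mem_HIn.1 ha
    have h3 : S.B u ((h : V ≃ₗ[F] V) w) = 0 := S.B_eq_zero_iff.2 fun a => by
      rw [← app_inv h (a • u), O.polar_app]
      exact hwP _ (Submodule.mem_sup_right (Submodule.mem_map_of_mem (smul_mem_lnF u a)))
    rw [hx, ← hk, ← add_smul, B, polar_sub_right, ← B, ← B, p.Bu_smul_u, h3, sub_zero]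
  have hxK : k₀ ∉ HIn K h₁ u := by
    intro hmem
    obtain ⟨j, hj⟩ := mem_HIn.1 hmem
    obtain ⟨k, hk⟩ := mem_HIn.1 ha
    have h4 : (Y.subtype w₀ : P) ∈ L₁.comap P.subtype := by
      refine ⟨(k₀ + k - j) • u, smul_mem_lnF _ _, (h : V ≃ₗ[F] V).injective ?_⟩
      show (h : V ≃ₗ[F] V) (((h⁻¹ : O Q) : V ≃ₗ[F] V) ((k₀ + k - j) • u)) = (h : V ≃ₗ[F] V) w
      rw [app_inv, sub_smul, add_smul, hj, hx, hk]; abel
    have : (Y.subtype w₀ : P) = 0 := (Submodule.mem_bot F).1 (hY.inf_eq_bot ▸ ⟨h4, w₀.2⟩)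
    exact hw₀ (Subtype.ext this)
  have hfix : (h₁ : V ≃ₗ[F] V) u = u := by
    have h1 := S.E_smul_self p.su hwu 1
    rw [one_smul] at h1
    rw [happ, fix_inv hM.fix, hE, h1, hM.fix]
  have hne : HIn K h₁ u ≠ ⊤ := fun e => hxK (e ▸ Submodule.mem_top)
  refine ⟨h₁, ⟨X.mul_mem (X.mul_mem hM.mem (hX.E_mem _ _)) (X.inv_mem hM.mem), hfix, hne, fun h' a1 a2 a3 => ?_⟩,
    k₀, hxK, hxu⟩
  have := Submodule.finrank_mono hle
  rw [finrank_HIn_inv h p.ne_zero] at this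
  exact (hM.max h' a1 a2 a3).trans this

theorem good_of_four [Finite F] (hX : S.Over X) (p : S.Pair u f) (hd : 4 * finrank F K ≤ finrank F V) :
    S.Good X u :=
  ⟨fun _ hM _ hx hxu a => hM.image_perp hX p hd hx hxu a, fun _ hM => exists_end hX p hd hM⟩

end EStr

end Cfsg.Agent.H57.ExtOrth
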