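import Cfsg.Agent.H57.ExtOrth.Stab
import Cfsg.Agent.H57.ExtOrth.Zero

/-!
An element outside the normaliser gives one that fixes a singular vector and moves its line.
-/

set_option autoImplicit false

namespace Cfsg.Agent.H57.ExtOrth

open QuadraticMap Module Cfsg.Agent.Orthogonal

variable {F K V : Type*} [Field F] [Field K] [Algebra F K] [AddCommGroup V] [Module F V] [Module K V]
  {Q : QuadraticForm F V}

namespace EStr

variable {S : EStr Q K} [FiniteDimensional K V]

omit [FiniteDimensional K V] in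
theorem sieGroup_le_comm : sieGroup S.QK ≤ commutator (O S.QK) := by
  rw [sieGroup, Subgroup.closure_le]
  rintro g ⟨u, w, hu, hw, rfl⟩
  exact S.sie_mem_comm hu hw

variable [Finite K]

/-- Singular vectors are moved to each other by commutators over `K`. -/
theorem exists_map (hm : 4 ≤ finrank K V) {u v : V} (hu : S.QK u = 0) (hu0 : u ≠ 0) (hv : S.QK v = 0) (hv0 : v ≠ 0) :
    ∃ n ∈ commutator (O S.QK), (n : V ≃ₗ[K] V) u = v := by
  have step : ∀ u v : V, S.QK u = 0 → S.QK v = 0 → S.B u v ≠ 0 →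
      ∃ n ∈ commutator (O S.QK), (n : V ≃ₗ[K] V) u = v := by
    intro u v hu hv hb
    set b := S.B u v with hbd
    have hv' : S.QK (b⁻¹ • v) = 0 := by rw [qmap_smul, hv, mul_zero]
    have huv' : S.B u (b⁻¹ • v) = 1 := by rw [B, polar_smul_right', ← B, ← hbd, inv_mul_cancel₀ hb]
    have hW := S.nd.nondeg_hyperbolic_perp hu hv' huv'
    have hr := S.nd.finrank_hyperbolic_perp hu hv' huv'
    obtain ⟨w, hw⟩ := hW.exists_value (by omega) (-b⁻¹)
    rw [restr_apply] at hw
    obtain ⟨h1, h2⟩ := (mem_perp_span_pair S.QK).1 w.2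
    rw [polar_smul_left'] at h2
    have h2' : polar S.QK v w = 0 := (mul_eq_zero.1 h2).resolve_left (inv_ne_zero hb)
    set y := b⁻¹ • u + b⁻¹ • v + (w : V) with hy
    have hQy : S.QK y = 0 := by
      rw [hy, map_add_polar, map_add_polar, qmap_smul, qmap_smul, hu, hv, hw, polar_add_left, polar_smul_left',
        polar_smul_left', polar_smul_left', polar_smul_right', h1, h2', show polar S.QK u v = b from rfl]
      field_simp; ring
    have huy : S.B u y = 1 := by
      rw [hy, B, polar_add_right, polar_add_right, polar_smul_right', polar_smul_right', polar_self', hu, h1,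
        show polar S.QK u v = b from rfl]
      field_simp; ring
    have hvy : S.B v y = 1 := by
      rw [hy, B, polar_add_right, polar_add_right, polar_smul_right', polar_smul_right', polar_self', hv, h2',
        polar_comm (⇑S.QK) v u, show polar S.QK u v = b from rfl]
      field_simp; ring
    obtain ⟨g, hg, hgu, -⟩ := exists_sie_partner hu hv hQy huy hvy
    exact ⟨g, sieGroup_le_comm hg, hgu⟩
  obtain ⟨c, hc, h1, h2⟩ := exists_common_partner S.nd (by omega) hu0 hv0 hu hv
  obtain ⟨n1, hn1, e1⟩ := step u c hu hc h1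
  obtain ⟨n2, hn2, e2⟩ := step c v hc hv (by rw [B, polar_comm]; exact h2)
  exact ⟨n2 * n1, mul_mem hn2 hn1, by rw [Subgroup.coe_mul, mul_app, e1, e2]⟩

variable [IsScalarTower F K V]

omit [FiniteDimensional K V] in
/-- Some nonzero singular vector has a singular image. -/
theorem exists_sing_image [Finite F] [FiniteDimensional F K] [FiniteDimensional F V]
    (hd : 4 * finrank F K < finrank F V + 2) (g : O Q) :
    ∃ u, u ≠ 0 ∧ S.QK u = 0 ∧ S.QK ((g : V ≃ₗ[F] V) u) = 0 := by
  obtain ⟨W0, hW0⟩ := Submodule.exists_isCompl (Submodule.span F {(1 : K)})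
  have hdim := Submodule.finrank_add_eq_of_isCompl hW0
  rw [finrank_span_singleton one_ne_zero] at hdim
  let bK := Module.finBasis F K
  let b0 := Module.finBasis F W0
  let T : K → QuadraticMap F V F := fun s => (S.τ.comp (LinearMap.mulLeft F s)).compQuadraticMap' S.QK
  have hT : ∀ s x, T s x = S.τ (s * S.QK x) := fun s x => rfl
  let P : Fin (finrank F K) ⊕ Fin (finrank F W0) → QuadraticMap F V F :=
    Sum.elim (fun i => T (bK i)) (fun j => (T (b0 j : K)).comp ((g : V ≃ₗ[F] V) : V →ₗ[F] V))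
  obtain ⟨u, hu0, hu⟩ := exists_common_zero P (fun _ => 0) (by
    rw [Fintype.card_sum, Fintype.card_fin, Fintype.card_fin]; omega)
  have hu' : S.QK u = 0 := S.eq_zero_of_tau fun s => by
    have h1 : (S.τ.comp (LinearMap.mulRight F (S.QK u))) = 0 := bK.ext fun i => by
      have := hu (Sum.inl i)
      simpa [P, hT] using this
    exact LinearMap.congr_fun h1 s
  refine ⟨u, hu0, hu', S.eq_zero_of_tau fun s => ?_⟩
  have h1 : (S.τ.comp (LinearMap.mulRight F (S.QK ((g : V ≃ₗ[F] V) u)))).comp W0.subtype = 0 := b0.ext fun j => by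
    have := hu (Sum.inr j)
    simpa [P, hT] using this
  obtain ⟨a, ha, w, hw, rfl⟩ := Submodule.mem_sup.1 (hW0.sup_eq_top ▸ Submodule.mem_top : s ∈ _ ⊔ W0)
  obtain ⟨c, rfl⟩ := Submodule.mem_span_singleton.1 ha
  have h2 : S.τ (w * S.QK ((g : V ≃ₗ[F] V) u)) = 0 := LinearMap.congr_fun h1 ⟨w, hw⟩
  rw [add_mul, smul_mul_assoc, one_mul, map_add, map_smul, h2, add_zero, ← S.comp, O.map_app, S.comp, hu', map_zero,
    smul_zero]

/-- Moving the image back. -/
theorem exists_fix_nonline (hm : 4 ≤ finrank K V) {X : Subgroup (O Q)} (hX : S.Over X) {g : O Q} (hg : g ∈ X)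
    {w : V} (hw0 : w ≠ 0) (hw : S.QK w = 0) (hgw : S.QK ((g : V ≃ₗ[F] V) w) = 0) (hk : ¬KeepsLine K g w) :
    ∃ h ∈ X, ∃ u f, S.Pair u f ∧ (h : V ≃ₗ[F] V) u = u ∧ ¬KeepsLine K h u := by
  obtain ⟨n, hn, hnw⟩ := exists_map hm hgw (fun h0 => hw0 ((g : V ≃ₗ[F] V).map_eq_zero_iff.1 h0)) hw hw0
  obtain ⟨f, p⟩ := exists_pair hw hw0
  refine ⟨S.res n * g, X.mul_mem (hX.res_mem hn) hg, w, f, p, by rw [Subgroup.coe_mul, mul_app, res_app, hnw],
    fun h => hk fun k => ?_⟩
  obtain ⟨k', hk'⟩ := h k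
  refine ⟨k', (n : V ≃ₗ[K] V).injective ?_⟩
  simpa only [Subgroup.coe_mul, mul_app, res_app, map_smul] using hk'

/-- An element outside the normaliser gives one that fixes a singular vector and moves its line. -/
theorem exists_nonline [Finite F] [FiniteDimensional F K] [FiniteDimensional F V] (hm : 4 ≤ finrank K V)
    (hd : 4 * finrank F K < finrank F V + 2) (hpar : Odd (finrank F K) ∨ 5 ≤ finrank K V)
    {X : Subgroup (O Q)} (hX : S.Over X) {g : O Q} (hg : g ∈ X) (hns : ¬Semi K g) :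
    ∃ h ∈ X, ∃ u f, S.Pair u f ∧ (h : V ≃ₗ[F] V) u = u ∧ ¬KeepsLine K h u := by
  obtain ⟨u, hu0, hu, hgu⟩ := exists_sing_image (S := S) hd g
  by_cases hk : KeepsLine K g u
  swap
  · exact exists_fix_nonline hm hX hg hu0 hu hgu hk
  obtain ⟨n, hn, hnu⟩ := exists_map hm hgu (fun h0 => hu0 ((g : V ≃ₗ[F] V).map_eq_zero_iff.1 h0)) hu hu0
  obtain ⟨f, p⟩ := exists_pair hu hu0
  have hkl : KeepsLine K (S.res n * g) u := fun k => by
    obtain ⟨k', hk'⟩ := hk k
    exact ⟨k', by rw [Subgroup.coe_mul, mul_app, mul_app, hk', res_app, res_app, map_smul]⟩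
  obtain ⟨h', hh', σ, e, C, hC, hs⟩ := exists_shape (by omega) hX (X.mul_mem (hX.res_mem hn) hg) p
    (by rw [Subgroup.coe_mul, mul_app, res_app, hnu]) hkl (fun h => hns (semi_res_mul h))
  rcases hpar with hodd | hm5
  · obtain ⟨w, hw0, hw, hw', hwk⟩ := hs.move_odd p hodd hC
    exact exists_fix_nonline hm hX hh' hw0 hw hw' hwk
  · have hW := S.nd.nondeg_hyperbolic_perp p.su p.sf p.uf
    have hr := S.nd.finrank_hyperbolic_perp p.su p.sf p.uf
    obtain ⟨v, hv0, hv⟩ := hW.exists_singular (by omega)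
    obtain ⟨v', hv', hvv⟩ := hW.exists_partner hv0 hv
    rw [restr_apply] at hv hv'
    rw [polar_restr] at hvv
    obtain ⟨h1, h2⟩ := (mem_perp_span_pair S.QK).1 v.2
    obtain ⟨h3, h4⟩ := (mem_perp_span_pair S.QK).1 v'.2
    obtain ⟨g', hg', w, hw0, hw, hw', hwk⟩ := hs.move_hyp p hX hh' hC hv hv' hvv h1 h2 h3 h4
    exact exists_fix_nonline hm hX hg' hw0 hw hw' hwk

end EStr

end Cfsg.Agent.H57.ExtOrth
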