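import Cfsg.Agent.H57.ExtOrth.Stab
import Cfsg.Agent.H57.ExtOrth.Iterate

/-!
A root element over the ground field whose plane is not in a line over the extension field.
-/

set_option autoImplicit false

namespace Cfsg.Agent.H57.ExtOrth

open QuadraticMap Module Cfsg.Agent.Orthogonal
open Cfsg.Agent.H98.SubfieldOrth (SIn)

variable {F K V : Type*} [Field F] [Field K] [Algebra F K] [AddCommGroup V] [Module F V] [Module K V]
  [IsScalarTower F K V] {Q : QuadraticForm F V}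

namespace EStr

variable {S : EStr Q K} [FiniteDimensional K V] [FiniteDimensional F K] [Finite F] [FiniteDimensional F V]
  {X : Subgroup (O Q)} {u f : V}

/-- An element moving the line of a singular vector gives a root element over the ground field. -/
theorem exists_root (hm : 3 ≤ finrank K V) (hr : (finrank F K).Prime)
    (hX : S.Over X) (p : S.Pair u f) (hG : S.Good X u) {g : O Q} (hg : g ∈ X) (hgu : (g : V ≃ₗ[F] V) u = u)
    (hne : ¬KeepsLine K g u) :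
    ∃ u' x : V, u' ≠ 0 ∧ S.QK u' = 0 ∧ Q x = 0 ∧ S.B u' x = 0 ∧ (∀ k : K, x ≠ k • u') ∧ SIn X u' x := by
  obtain ⟨h', hM'⟩ := exists_max (S := S) hg hgu hne
  obtain ⟨h, hM, a₀, ha₀, hxu⟩ := hG.ends h' hM'
  set x := (h : V ≃ₗ[F] V) (a₀ • u) with hx
  have hKfin : Finite K := Module.finite_of_finite F
  have hxK : ∀ k : K, x ≠ k • u := fun k e => ha₀ (mem_HIn.2 ⟨k, e.symm⟩)
  have hQx : Q x = 0 := by rw [hx, O.map_app, S.sing (S.sing_smul p.su _)]
  have hperpsmul : ∀ w : V, S.B u w = 0 → ∀ k : K, S.B u (k • w) = 0 := fun w hw k => by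
    rw [B, polar_smul_right', ← B, hw, mul_zero]
  -- the inverse side
  obtain ⟨k₀, -, hk₀⟩ := SetLike.exists_of_lt (hM.inv p.ne_zero).ne_top.lt_top
  set x₁ := ((h⁻¹ : O Q) : V ≃ₗ[F] V) (k₀ • u) with hx₁
  have hx₁u : S.B u x₁ = 0 := S.B_eq_zero_iff.2 fun a => by
    rw [← O.polar_app h, hx₁, app_inv]
    obtain ⟨c, k, hck⟩ := hM.image_line hX p hr ha₀ hxu (hG.perp h hM a₀ ha₀ hxu a)
    have hxu' : polar S.QK x (k₀ • u) = 0 := by
      rw [polar_smul_right', polar_comm, ← B, hxu, mul_zero]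
    rw [hck, polar_add_left, polar_smul_left', S.f_eq x, B, hxu', map_zero, mul_zero, zero_add, S.f_eq, B, polar_smul_left',
      polar_smul_right', ← B, S.B_self p.su, mul_zero, mul_zero, map_zero]
  have hx₁K : ∀ k : K, x₁ ≠ k • u := fun k e => hk₀ (mem_HIn.2 ⟨k, e.symm⟩)
  have hsplit : ∀ k : K, ∃ c : F, k - c • k₀ ∈ HIn K h⁻¹ u := by
    intro k
    obtain ⟨c, j, hj⟩ := (hM.inv p.ne_zero).image_line hX p hr hk₀ hx₁u (hG.perp _ (hM.inv p.ne_zero) k₀ hk₀ hx₁u k)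
    refine ⟨c, mem_HIn.2 ⟨j, ?_⟩⟩
    rw [sub_smul, smul_assoc, map_sub, map_smul _ c, hj]; abel
  obtain ⟨θ₀, hθ1, hθ2⟩ := Submodule.exists_dual_map_eq_bot_of_notMem hk₀ inferInstance
  set θ := (θ₀ k₀)⁻¹ • θ₀ with hθ
  have hθk₀ : θ k₀ = 1 := by rw [hθ, LinearMap.smul_apply, smul_eq_mul, inv_mul_cancel₀ hθ1]
  have hθH : ∀ k ∈ HIn K h⁻¹ u, θ k = 0 := fun k hk => by
    have := hθ2 ▸ Submodule.mem_map_of_mem (f := θ₀) hk
    rw [Submodule.mem_bot] at this
    rw [hθ, LinearMap.smul_apply, this, smul_zero]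
  have h1mem : (1 : K) ∈ HIn K h⁻¹ u := mem_HIn_inv.2 ⟨1, by rw [one_smul, hM.fix]⟩
  have hθ1' : θ 1 = 0 := hθH 1 h1mem
  have hdecomp : ∀ k : K, k - θ k • k₀ ∈ HIn K h⁻¹ u := fun k => by
    obtain ⟨c, hc⟩ := hsplit k
    have := hθH _ hc
    rw [map_sub, map_smul, hθk₀, smul_eq_mul, mul_one, sub_eq_zero] at this
    rwa [this]
  obtain ⟨η, hη⟩ := S.exists_rep θ
  have hη0 : η ≠ 0 := fun e => one_ne_zero (α := F) (by rw [← hθk₀, hη, e, zero_mul, map_zero])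
  -- a vector pairing to one with the inverse image
  obtain ⟨z₁, hz₁, hz₁x⟩ : ∃ z, S.B u z = 0 ∧ S.B z x₁ = 1 := by
    by_contra hc
    push Not at hc
    refine hx₁K _ (p.eq_smul_of_perp fun z hz => ?_)
    by_contra h0
    exact hc _ (hperpsmul z hz (S.B x₁ z)⁻¹) (by rw [B, polar_smul_left', polar_comm, ← B, inv_mul_cancel₀ h0])
  -- conjugates that fix the kept part of the line
  have hconj : ∀ b : K, ∃ s ∈ X, ∀ k : K,
      (s : V ≃ₗ[F] V) (k • u) = k • u + θ k • (h : V ≃ₗ[F] V) (b • u) := by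
    intro b
    refine ⟨h * S.E u (b • z₁) p.su (hperpsmul _ hz₁ b) * h⁻¹, X.mul_mem (X.mul_mem hM.mem (hX.E_mem _ _))
      (X.inv_mem hM.mem), fun k => ?_⟩
    obtain ⟨a, ha⟩ := mem_HIn_inv.1 (hdecomp k)
    have e1 : ((h⁻¹ : O Q) : V ≃ₗ[F] V) (k • u) = a • u + θ k • x₁ := by
      have h2 : k • u = (h : V ≃ₗ[F] V) (a • u) + θ k • (k₀ • u) := by
        rw [ha, sub_smul, smul_assoc]; abel
      conv_lhs => rw [h2, map_add, inv_app, map_smul, ← hx₁]
    rw [Subgroup.coe_mul, mul_app, Subgroup.coe_mul, mul_app, e1, map_add, E_smul_self, map_smul _ (θ k), E_app_perp _ _ _ hx₁u,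
      B, polar_smul_left', ← B, hz₁x, mul_one, map_add, map_smul _ (θ k), map_add, ha, hx₁, app_inv, sub_smul, smul_assoc,
      smul_add]
    abel
  obtain ⟨C₀, hC₀, hC₀u⟩ := hconj 1
  have hA : ∀ k : K, (C₀ : V ≃ₗ[F] V) (k • u) = (k + algebraMap F K (θ k)) • u := fun k => by
    rw [hC₀u, one_smul, hM.fix, add_smul, algebraMap_smul]
  set A : K → K := fun k => k + algebraMap F K (θ k) with hAd
  have hA1 : A 1 = 1 := by simp only [hAd, hθ1', map_zero, add_zero]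
  have hAinv : ∀ k, A (k - algebraMap F K (θ k)) = k := fun k => by
    simp only [hAd, map_sub, Algebra.algebraMap_eq_smul_one, map_smul, hθ1', smul_zero, sub_zero, sub_add_cancel]
  have hAinj : Function.Injective A := fun a b hab => by
    have h1 : θ a = θ b := by
      have := congrArg θ hab
      simpa only [hAd, map_add, Algebra.algebraMap_eq_smul_one, map_smul, hθ1', smul_zero, add_zero] using this
    have h2 : a + algebraMap F K (θ a) = b + algebraMap F K (θ b) := hab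
    rw [h1] at h2
    exact add_right_cancel h2
  have hup : ∀ y, S.B u y = 0 → S.B u ((C₀ : V ≃ₗ[F] V) y) = 0 := fun y hy =>
    S.perp_map (fun a => ⟨a - algebraMap F K (θ a), by rw [hA, show _ + _ = a from hAinv a]⟩) hy
  have hdown : ∀ y, S.B u y = 0 → S.B u (((C₀⁻¹ : O Q) : V ≃ₗ[F] V) y) = 0 := fun y hy =>
    S.perp_map_symm (h := C₀) (fun a => ⟨A a, hA a⟩) (by rw [app_inv]; exact hy)
  -- a radical element with values in the kept part
  have hrad : ∀ z, S.B u z = 0 → ∃ ρ ∈ X, ∃ φ : V → K, S.Rad u ρ φ ∧ (∀ y, S.B u y = 0 → θ (φ y) = 0) ∧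
      ∀ y, S.B u y = 0 → φ y = A (S.B z (((C₀⁻¹ : O Q) : V ≃ₗ[F] V) y)) -
        S.B (η⁻¹ • (C₀ : V ≃ₗ[F] V) (η • z)) y := by
    intro z hz
    set z' := η⁻¹ • (C₀ : V ≃ₗ[F] V) (η • z) with hz'
    have hz'u : S.B u (-z') = 0 := by
      rw [B, polar_neg_right, ← B, hz', hperpsmul _ (hup _ (hperpsmul z hz η)), neg_zero]
    set G := C₀ * S.E u z p.su hz * C₀⁻¹ with hG
    set E' := S.E u (-z') p.su hz'u with hE'
    have hGy : ∀ y, S.B u y = 0 →
        (G : V ≃ₗ[F] V) y = y + A (S.B z (((C₀⁻¹ : O Q) : V ≃ₗ[F] V) y)) • u := fun y hy => by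
      rw [hG, Subgroup.coe_mul, mul_app, Subgroup.coe_mul, mul_app, E_app_perp _ _ _ (hdown y hy), map_add, app_inv, hA]
    refine ⟨E' * G, X.mul_mem (hX.E_mem _ _) (X.mul_mem (X.mul_mem hC₀ (hX.E_mem _ _)) (X.inv_mem hC₀)),
      fun y => A (S.B z (((C₀⁻¹ : O Q) : V ≃ₗ[F] V) y)) - S.B z' y, ⟨fun a => ?_, fun y hy => ?_⟩, fun y hy => ?_,
      fun y _ => rfl⟩
    · have e1 : (G : V ≃ₗ[F] V) (a • u) = a • u := by
        have e2 : ((C₀⁻¹ : O Q) : V ≃ₗ[F] V) (a • u) = (a - algebraMap F K (θ a)) • u := by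
          conv_lhs => rw [show a = _ + _ from (hAinv a).symm, ← hA, inv_app]
        rw [hG, Subgroup.coe_mul, mul_app, Subgroup.coe_mul, mul_app, e2, E_smul_self, hA, show _ + _ = a from hAinv a]
      rw [Subgroup.coe_mul, mul_app, e1, hE', E_smul_self]
    · rw [Subgroup.coe_mul, mul_app, hGy y hy, map_add, hE', E_app_perp _ _ _ hy, E_smul_self, B, polar_neg_left, ← B]
      module
    · have h1 : S.τ (η * S.B z' y) = S.τ (η * S.B z (((C₀⁻¹ : O Q) : V ≃ₗ[F] V) y)) := by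
        rw [S.tau_B, S.tau_B, hz', smul_smul, mul_inv_cancel₀ hη0, one_smul, ← O.polar_app C₀ (η • z), app_inv]
      have h2 : θ (S.B z' y) = θ (S.B z (((C₀⁻¹ : O Q) : V ≃ₗ[F] V) y)) := by rw [hη, hη, h1]
      show θ (A _ - _) = 0
      simp only [hAd, map_sub, map_add, Algebra.algebraMap_eq_smul_one, map_smul, hθ1', smul_zero, add_zero]
      rw [h2, sub_self]
  obtain ⟨ρ, hρ, φ, hR, hφθ, y, hy, hφy⟩ : ∃ ρ ∈ X, ∃ φ : V → K, S.Rad u ρ φ ∧ (∀ y, S.B u y = 0 → θ (φ y) = 0) ∧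
      ∃ y, S.B u y = 0 ∧ φ y ≠ 0 := by
    by_contra hcon
    have hzero : ∀ z, S.B u z = 0 → ∀ y, S.B u y = 0 →
        A (S.B z (((C₀⁻¹ : O Q) : V ≃ₗ[F] V) y)) = S.B (η⁻¹ • (C₀ : V ≃ₗ[F] V) (η • z)) y := fun z hz y hy => by
      obtain ⟨ρ, hρ, φ, hR, hφθ, hφ⟩ := hrad z hz
      rw [← sub_eq_zero, ← hφ y hy]
      by_contra h0
      exact hcon ⟨ρ, hρ, φ, hR, hφθ, y, hy, h0⟩
    obtain ⟨z₀, y₁, hz₀, -, hy₁, -, hzy⟩ := exists_perp_pair hm p
    have hmul : ∀ a b : K, A (b * a) = A a * A b := by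
      intro a b
      set y₀ := (C₀ : V ≃ₗ[F] V) y₁ with hy₀
      have h0 := hup y₁ hy₁
      have e1 : ∀ z, S.B u z = 0 →
          A (S.B z (((C₀⁻¹ : O Q) : V ≃ₗ[F] V) (A a • y₀))) = A a * A (S.B z y₁) := fun z hz => by
        have e2 := hzero z hz y₀ h0
        rw [hy₀, inv_app] at e2
        rw [hy₀, hzero z hz _ (hperpsmul _ h0 _), e2, B, polar_smul_right']
      have h1 := e1 z₀ hz₀
      rw [hzy, hA1, mul_one] at h1
      have h2 := e1 (b • z₀) (hperpsmul _ hz₀ b)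
      rwa [B, B, polar_smul_left', polar_smul_left', ← B, ← B, hAinj h1, hzy, mul_one] at h2
    have h3 : k₀ * k₀ + algebraMap F K (θ (k₀ * k₀)) = (k₀ + 1) * (k₀ + 1) := by
      have := hmul k₀ k₀
      simpa only [hAd, hθk₀, map_one] using this
    set c := θ (k₀ * k₀)
    refine hk₀ ?_
    have h5 : (2 : K) * k₀ = algebraMap F K (c - 1) := by rw [map_sub, map_one]; linear_combination -h3
    have h6 : k₀ = ((2 : F)⁻¹ * (c - 1)) • (1 : K) := by
      rw [← Algebra.algebraMap_eq_smul_one, map_mul, map_inv₀, map_ofNat, ← h5, inv_mul_cancel_left₀ S.two]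
    rw [h6]
    exact Submodule.smul_mem _ _ h1mem
  -- the map along the line
  obtain ⟨T, hT, ν, hν, hν'⟩ := hR.along hX hρ p (z := η⁻¹ • y) (hperpsmul y hy _)
  have hνη : ν η = -φ y := S.eq_of_tau fun s => by
    rw [hν', ← hη, hφθ _ (hperpsmul _ (hperpsmul y hy _) s), smul_smul, mul_inv_cancel₀ hη0, one_smul, zero_sub,
      mul_neg, map_neg]
  have halt : ∀ a b, S.τ (a * ν b) = -S.τ (b * ν a) := fun a b => by rw [hν', hν']; ring
  set h₀ := ν η with hh₀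
  have hh₀0 : h₀ ≠ 0 := by rw [hνη]; exact neg_ne_zero.2 hφy
  have hθh₀ : θ h₀ = 0 := by rw [hνη, map_neg, hφθ y hy, neg_zero]
  obtain ⟨s, hs, hsu⟩ := hconj a₀
  rw [← hx] at hsu
  have hu'x : polar Q (h₀ • u) x = 0 := by rw [← S.tau_B, hxu, mul_zero, map_zero]
  have hsu' : Q (h₀ • u) = 0 := S.sing (S.sing_smul p.su _)
  refine ⟨h₀ • u, x, smul_ne_zero hh₀0 p.ne_zero, S.sing_smul p.su _, hQx,
    by rw [B, polar_smul_left', ← B, hxu, mul_zero], fun k e => hxK (k * h₀) (by rw [e, mul_smul]), hsu', hu'x, ?_⟩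
  suffices sie (h₀ • u) x hsu' hu'x = T⁻¹ * (s * T * s⁻¹) by
    rw [this]; exact X.mul_mem (X.inv_mem hT) (X.mul_mem (X.mul_mem hs hT) (X.inv_mem hs))
  refine O.ext_app fun v => ?_
  apply (T : V ≃ₗ[F] V).injective
  conv_rhs => rw [← mul_app, ← Subgroup.coe_mul, mul_inv_cancel_left]
  obtain ⟨w, rfl⟩ := (s : V ≃ₗ[F] V).surjective v
  rw [← mul_app ((s * T * s⁻¹ : O Q) : V ≃ₗ[F] V), ← Subgroup.coe_mul, inv_mul_cancel_right, Subgroup.coe_mul, mul_app]
  set v := (s : V ≃ₗ[F] V) w with hv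
  rw [hν w, map_add, ← hv, hsu]
  have hβ : S.B u w = S.B u v + polar Q x v • η := S.eq_of_tau fun a => by
    have e1 : polar Q ((θ a) • x) v = θ a * polar Q x v := polar_smul_left' ..
    rw [mul_add, map_add, S.tau_B, S.tau_B, ← O.polar_app s (a • u) w, ← hv, hsu, polar_add_left, e1, mul_smul_comm,
      map_smul, smul_eq_mul, hη a, mul_comm a η]
    ring
  have hθν : θ (ν (S.B u v)) = -polar Q (h₀ • u) v := by
    rw [hη, halt, mul_comm, ← hh₀, S.tau_B]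
  rw [sie_app, hQx, zero_mul, sub_zero, hν]
  have hB : S.B u (v + polar Q x v • h₀ • u - polar Q (h₀ • u) v • x) = S.B u v := by
    rw [← algebraMap_smul K (polar Q x v), ← algebraMap_smul K (polar Q (h₀ • u) v) x, smul_smul, B, polar_sub_right,
      polar_add_right, ← B, ← B, ← B, p.Bu_smul_u, hperpsmul x hxu]
    ring
  rw [hB, hβ, map_add, map_smul, ← hh₀, map_add, map_smul, hθν, hθh₀, smul_zero, add_zero, add_smul, smul_assoc,
    neg_smul]
  abel

end EStr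

end Cfsg.Agent.H57.ExtOrth
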