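import Cfsg.Agent.H57.ExtOrth.Frame

/-!
An isometry that is semilinear on the orthogonal space of a hyperbolic pair and twisted on the second vector
moves some singular line onto a subspace that is not a line.
-/

set_option autoImplicit false

namespace Cfsg.Agent.H57.ExtOrth

open QuadraticMap Module Cfsg.Agent.Orthogonal

variable {F K V : Type*} [Field F] [Field K] [Algebra F K] [AddCommGroup V] [Module F V] [Module K V]
  {Q : QuadraticForm F V}

namespace EStr

variable (S : EStr Q K)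

/-- The normal form of an isometry stabilising the line of `u`. -/
structure Shape (u f : V) (h : O Q) (σ : K ≃+* K) (e : K) (C : K →ₗ[F] K) : Prop where
  tau : ∀ x, S.τ (e * σ x) = S.τ x
  on_u : ∀ a : K, (h : V ≃ₗ[F] V) (a • u) = σ a • u
  on_f : ∀ k : K, (h : V ≃ₗ[F] V) (k • f) = (σ k * e) • f + C k • u
  perp : ∀ z, S.B u z = 0 → S.B f z = 0 → S.B u ((h : V ≃ₗ[F] V) z) = 0 ∧ S.B f ((h : V ≃ₗ[F] V) z) = 0 ∧
    ∀ k : K, (h : V ≃ₗ[F] V) (k • z) = σ k • (h : V ≃ₗ[F] V) z
  norm : ∀ z, S.B u z = 0 → S.B f z = 0 → S.QK ((h : V ≃ₗ[F] V) z) = e * σ (S.QK z)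

variable {S} {u f : V} {h : O Q} {σ : K ≃+* K} {e : K} {C : K →ₗ[F] K}

namespace Shape

variable (hs : S.Shape u f h σ e C) (p : S.Pair u f)
include hs p

omit p in
theorem e_ne : e ≠ 0 := fun he => by
  obtain ⟨k, hk⟩ := S.exists_tau_ne
  exact hk (by rw [← hs.tau k, he, zero_mul, map_zero])

omit p in
theorem image_u : (h : V ≃ₗ[F] V) u = u := by simpa using hs.on_u 1

omit p in
theorem image_f : (h : V ≃ₗ[F] V) f = e • f + C 1 • u := by simpa using hs.on_f 1

theorem alt_self (k : K) : S.τ (e * σ k * C k) = 0 := by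
  have h1 := O.map_app h (k • f)
  rw [hs.on_f, S.comp, S.comp, map_add_polar, qmap_smul, qmap_smul, qmap_smul, p.su, p.sf, polar_smul_left',
    polar_smul_right', polar_comm (⇑S.QK) f u, show polar S.QK u f = 1 from p.uf] at h1
  simpa [mul_comm, mul_assoc, mul_left_comm] using h1

theorem alt (k l : K) : S.τ (e * σ k * C l) + S.τ (e * σ l * C k) = 0 := by
  have h1 := hs.alt_self p (k + l)
  have h2 := hs.alt_self p k
  have h3 := hs.alt_self p l
  simp only [map_add, mul_add, add_mul] at h1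
  linear_combination h1 - h2 - h3

omit p in
/-- A defect that is semilinear vanishes. -/
theorem eq_zero_of_twist (p : S.Pair u f) (hC : ∀ k, C k = σ k * C 1) : C = 0 := by
  have h1 : C 1 = 0 := by
    have h2 : e * C 1 = 0 := S.eq_zero_of_tau fun s => by
      obtain ⟨t, rfl⟩ := σ.surjective s
      have h3 := hs.alt p t 1
      rw [show σ 1 = 1 from map_one σ, mul_one, hC t] at h3
      have e1 : e * σ t * C 1 = σ t * (e * C 1) := by ring
      have e2 : e * (σ t * C 1) = σ t * (e * C 1) := by ring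
      rw [e1, e2] at h3
      have hF : (2 : F) ≠ 0 := fun h0 => S.two (by
        rw [← map_ofNat (algebraMap F K) 2, h0, map_zero])
      exact (mul_eq_zero.1 (show (2 : F) * S.τ (σ t * (e * C 1)) = 0 by linear_combination h3)).resolve_left hF
    exact (mul_eq_zero.1 h2).resolve_left hs.e_ne
  exact LinearMap.ext fun k => by rw [hC, h1, mul_zero, LinearMap.zero_apply]

/-- With no defect the isometry is semilinear. -/
theorem semi (hC : C = 0) : Semi K h := by
  intro k
  refine ⟨σ k, fun x => ?_⟩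
  obtain ⟨z, hz1, hz2, hx⟩ := p.dec x
  rw [hx, smul_add, smul_add, ← mul_smul, ← mul_smul, map_add, map_add, map_add, map_add, hs.on_u, hs.on_u, hs.on_f,
    hs.on_f, (hs.perp z hz1 hz2).2.2, hC]
  simp only [LinearMap.zero_apply, zero_smul, add_zero, map_mul, smul_add, smul_smul, mul_assoc]

/-- In odd degree a defect moves a line off. -/
theorem move_odd [IsScalarTower F K V] [FiniteDimensional F K] (hodd : Odd (finrank F K)) (hC : C ≠ 0) :
    ∃ w, w ≠ 0 ∧ S.QK w = 0 ∧ S.QK ((h : V ≃ₗ[F] V) w) = 0 ∧ ¬KeepsLine K h w := by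
  have hF : (2 : F) ≠ 0 := fun h0 => S.two (by rw [← map_ofNat (algebraMap F K) 2, h0, map_zero])
  let σL : K →ₗ[F] K :=
    { toFun := σ
      map_add' := map_add σ
      map_smul' := fun c x => by
        have h1 := hs.on_u (c • x)
        rw [smul_assoc, map_smul, hs.on_u, ← smul_assoc] at h1
        exact smul_left_injective K p.ne_zero h1.symm }
  let b : LinearMap.BilinForm F K :=
    (((LinearMap.mul F K).compr₂ S.τ).compl₁₂ ((LinearMap.mul F K e).comp σL) C)
  have hb : ∀ x y, b x y = S.τ (e * σ x * C y) := fun x y => rfl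
  obtain ⟨β, hβ, hker⟩ := exists_alt_kernel hF hodd b fun x y => by rw [hb, hb]; exact hs.alt p x y
  have hCβ : C β = 0 := S.eq_zero_of_tau fun s => by
    obtain ⟨t, rfl⟩ : ∃ t, σ t * e = s := by
      obtain ⟨t, ht⟩ := σ.surjective (s / e)
      exact ⟨t, by rw [ht, div_mul_cancel₀ s hs.e_ne]⟩
    have := hs.alt p t β
    rw [← hb β t, hker t, add_zero] at this
    rwa [mul_comm (σ t) e]
  refine ⟨β • f, fun h0 => ?_, S.sing_smul p.sf β, ?_, fun hk => hC ?_⟩
  · exact p.ne_zero' ((smul_eq_zero.1 h0).resolve_left hβ)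
  · rw [hs.on_f, hCβ, zero_smul, add_zero]
    exact S.sing_smul p.sf _
  · refine LinearMap.ext fun l => ?_
    obtain ⟨k', hk'⟩ := hk (l / β)
    rw [← mul_smul, div_mul_cancel₀ l hβ, hs.on_f, hs.on_f, hCβ, zero_smul, add_zero] at hk'
    have := congrArg (S.B f) hk'
    rwa [B, polar_add_right, ← B, ← B, p.Bf_smul_f, p.Bf_smul_u, zero_add, ← mul_smul, p.Bf_smul_f] at this

variable [IsScalarTower F K V] [FiniteDimensional K V]

/-- A hyperbolic pair orthogonal to the first one also gives a line moved off. -/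
theorem move_hyp {X : Subgroup (O Q)} (hX : S.Over X) (hh : h ∈ X) (hC : C ≠ 0) {v v' : V} (hv : S.QK v = 0)
    (hv' : S.QK v' = 0) (hvv : S.B v v' = 1) (huv : S.B u v = 0) (hfv : S.B f v = 0) (huv' : S.B u v' = 0)
    (hfv' : S.B f v' = 0) :
    ∃ g ∈ X, ∃ w, w ≠ 0 ∧ S.QK w = 0 ∧ S.QK ((g : V ≃ₗ[F] V) w) = 0 ∧ ¬KeepsLine K g w := by
  have hvf : S.B v f = 0 := by rw [B, polar_comm]; exact hfv
  have hvu : S.B v u = 0 := by rw [B, polar_comm]; exact huv
  have hv'f : S.B v' f = 0 := by rw [B, polar_comm]; exact hfv'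
  set μ := -σ.symm (C 1) with hμ
  have hσμ : σ μ = -C 1 := by rw [hμ, map_neg, σ.apply_symm_apply]
  set E := S.E v f hv hvf with hE
  set g := h * E * h⁻¹ with hg
  have hgh : ∀ x, (g : V ≃ₗ[F] V) ((h : V ≃ₗ[F] V) x) = (h : V ≃ₗ[F] V) ((E : V ≃ₗ[F] V) x) := fun x => by
    rw [hg, ← mul_app, ← mul_app, ← Subgroup.coe_mul, ← Subgroup.coe_mul, inv_mul_cancel_right]
  set w := f + μ • u + (2 : K) • v' with hw
  set P := (2 : K) • v' + μ • v with hP
  have hPu : S.B u P = 0 := by rw [hP, B, polar_add_right, polar_smul_right', polar_smul_right', ← B, ← B, huv, huv']; ring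
  have hPf : S.B f P = 0 := by rw [hP, B, polar_add_right, polar_smul_right', polar_smul_right', ← B, ← B, hfv, hfv']; ring
  have h2u : S.B u ((2 : K) • v') = 0 := by rw [B, polar_smul_right', ← B, huv', mul_zero]
  have h2f : S.B f ((2 : K) • v') = 0 := by rw [B, polar_smul_right', ← B, hfv', mul_zero]
  have hEw : (E : V ≃ₗ[F] V) w = -f + μ • u + P := by
    rw [hE, E_app, hw, hP, B, B, p.sf]
    simp only [polar_add_right, polar_smul_right', show polar S.QK f f = 0 from p.ff, show polar S.QK f u = 1 from p.fu,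
      show polar S.QK f v' = 0 from hfv', show polar S.QK v f = 0 from hvf, show polar S.QK v u = 0 from hvu,
      show polar S.QK v v' = 1 from hvv]
    module
  have hEu : (E : V ≃ₗ[F] V) u = u + v := by
    rw [hE, E_app, show S.B f u = 1 from p.fu, p.sf, hvu]; module
  have hy : (h : V ≃ₗ[F] V) w = e • f + (h : V ≃ₗ[F] V) ((2 : K) • v') := by
    rw [hw, map_add, map_add, hs.image_f, hs.on_u, hσμ]; module
  have hgy : (g : V ≃ₗ[F] V) ((h : V ≃ₗ[F] V) w) = -(e • f) + (2 * σ μ) • u + (h : V ≃ₗ[F] V) P := by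
    rw [hgh, hEw, map_add, map_add, map_neg, hs.image_f, hs.on_u, hσμ]; module
  obtain ⟨hh2u, hh2f, hh2⟩ := hs.perp _ h2u h2f
  obtain ⟨hhPu, hhPf, hhP⟩ := hs.perp _ hPu hPf
  obtain ⟨hhvu, hhvf, -⟩ := hs.perp _ huv hfv
  have hn2 : S.QK ((h : V ≃ₗ[F] V) ((2 : K) • v')) = 0 := by
    rw [hs.norm _ h2u h2f, qmap_smul, hv', mul_zero, map_zero, mul_zero]
  have hnP : S.QK ((h : V ≃ₗ[F] V) P) = e * (2 * σ μ) := by
    rw [hs.norm _ hPu hPf, hP, map_add_polar, qmap_smul, qmap_smul, hv, hv', polar_smul_left', polar_smul_right',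
      polar_comm (⇑S.QK) v' v, show polar S.QK v v' = 1 from hvv, mul_one, mul_zero, mul_zero, zero_add, zero_add,
      map_mul, map_ofNat]
  refine ⟨g, X.mul_mem (X.mul_mem hh (hX.E_mem _ _)) (X.inv_mem hh), (h : V ≃ₗ[F] V) w, fun h0 => ?_, ?_, ?_, ?_⟩
  · have := congrArg (S.B u) h0
    rw [hy, B, polar_add_right, ← B, ← B, p.Bu_smul_f, hh2u, add_zero, B, polar_zero_right] at this
    exact hs.e_ne this
  · rw [hy, map_add_polar, qmap_smul, p.sf, hn2, polar_smul_left', show polar S.QK f _ = 0 from hh2f]; ring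
  · rw [hgy, map_add_polar, map_add_polar, QuadraticMap.map_neg, qmap_smul, qmap_smul, p.sf, p.su, hnP, polar_neg_left,
      polar_add_left, polar_neg_left, polar_smul_left', polar_smul_left', polar_smul_left', polar_smul_right',
      show polar S.QK f _ = 0 from hhPf, show polar S.QK u _ = 0 from hhPu, show polar S.QK f u = 1 from p.fu]
    ring
  · intro hk
    refine hC (hs.eq_zero_of_twist p fun l => ?_)
    obtain ⟨k', hk'⟩ := hk (σ l)
    set D := C l - σ l * C 1 with hD
    have h1 : σ l • (h : V ≃ₗ[F] V) w = (h : V ≃ₗ[F] V) (l • w) - D • u := by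
      rw [hy, hw, smul_add, smul_add, smul_add, map_add, map_add, ← hh2, smul_smul l μ u, ← mul_smul, hs.on_f, hs.on_u,
        map_mul, hσμ]
      rw [hD]; module
    have h2 : (h : V ≃ₗ[F] V) ((E : V ≃ₗ[F] V) (l • w)) =
        σ l • (g : V ≃ₗ[F] V) ((h : V ≃ₗ[F] V) w) - D • u := by
      rw [E_semi, hEw, smul_add, smul_add, smul_neg, map_add, map_add, map_neg, ← mul_smul, hs.on_f, hs.on_u, map_mul,
        hgy, hhP, hσμ, hD]
      module
    have h3 : (g : V ≃ₗ[F] V) (D • u) = D • u + D • (h : V ≃ₗ[F] V) v := by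
      obtain ⟨d, hd⟩ := σ.surjective D
      rw [← hd, ← hs.on_u, hgh, E_semi, hEu, smul_add, map_add, hs.on_u, (hs.perp v huv hfv).2.2]
    rw [h1, map_sub, hgh, h2, h3] at hk'
    have hk1 := congrArg (S.B u) hk'
    simp only [hgy, B, polar_sub_right, polar_add_right, polar_smul_right', polar_neg_right,
      show polar S.QK u u = 0 from p.uu, show polar S.QK u f = 1 from p.uf,
      show polar S.QK u _ = 0 from hhPu, show polar S.QK u _ = 0 from hhvu] at hk1
    have hkk : k' = σ l := by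
      have : k' * e = σ l * e := by linear_combination hk1
      exact mul_right_cancel₀ hs.e_ne this
    rw [hkk] at hk'
    have hk2 := congrArg (S.B f) hk'
    simp only [B, polar_sub_right, polar_add_right, polar_smul_right', show polar S.QK f u = 1 from p.fu,
      show polar S.QK f _ = 0 from hhvf] at hk2
    have : (2 : K) * D = 0 := by linear_combination -hk2
    exact sub_eq_zero.1 ((mul_eq_zero.1 this).resolve_left S.two)

end Shape

end EStr

end Cfsg.Agent.H57.ExtOrth
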