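import Cfsg.Agent.H57.ExtOrth.Shape

/-!
An isometry outside the normaliser that stabilises a singular line leads to one in normal form with a defect.
-/

set_option autoImplicit false

namespace Cfsg.Agent.H57.ExtOrth

open QuadraticMap Module Cfsg.Agent.Orthogonal

variable {F K V : Type*} [Field F] [Field K] [Algebra F K] [AddCommGroup V] [Module F V] [Module K V]
  {Q : QuadraticForm F V}

namespace EStr

variable (S : EStr Q K)

/-- `g` fixes the line of `u` pointwise and moves its orthogonal space along it. -/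
structure Rad (u : V) (g : O Q) (φ : V → K) : Prop where
  fix : ∀ a : K, (g : V ≃ₗ[F] V) (a • u) = a • u
  move : ∀ y, S.B u y = 0 → (g : V ≃ₗ[F] V) y = y + φ y • u

variable {S} {u f : V} {g : O Q} {φ : V → K}

theorem Rad.B_app (hR : S.Rad u g φ) (x : V) : S.B u ((g : V ≃ₗ[F] V) x) = S.B u x :=
  S.eq_of_tau fun a => by
    rw [B, B, ← polar_smul_left', ← polar_smul_left', ← B, ← B, ← S.f_eq, ← S.f_eq]
    conv_lhs => rw [← hR.fix a, O.polar_app]

variable [IsScalarTower F K V]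

theorem exists_linear (p : S.Pair u f) {g : O Q} (hg : ∀ y, S.B u y = 0 → (g : V ≃ₗ[F] V) y = y) :
    ∃ ν : K →ₗ[F] K, ∀ x, (g : V ≃ₗ[F] V) x = x + ν (S.B u x) • u := by
  refine ⟨((S.QK.polarBilin f).restrictScalars F).comp
    ((((g : V ≃ₗ[F] V) : V →ₗ[F] V) - LinearMap.id).comp ((LinearMap.toSpanSingleton K V f).restrictScalars F)),
    fun x => ?_⟩
  have h1 := p.move_along hg (S.B u x • f)
  have hy : S.B u (x - S.B u x • f) = 0 := by rw [B, polar_sub_right, ← B, ← B, p.Bu_smul_f, sub_self]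
  have h2 := hg _ hy
  rw [map_sub, h1] at h2
  simp only [LinearMap.comp_apply, LinearMap.restrictScalars_apply, LinearMap.toSpanSingleton_apply, LinearMap.sub_apply,
    LinearEquiv.coe_coe, LinearMap.id_coe, id_eq, QuadraticMap.polarBilin_apply_apply]
  linear_combination (norm := module) h2

omit [IsScalarTower F K V] in
/-- A map along the line of `u` is in normal form. -/
theorem shape_of_along (p : S.Pair u f) {ν : K →ₗ[F] K} (hg : ∀ x, (g : V ≃ₗ[F] V) x = x + ν (S.B u x) • u) :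
    S.Shape u f g (RingEquiv.refl K) 1 ν where
  tau x := by simp
  on_u a := by rw [hg, p.Bu_smul_u, map_zero, zero_smul, add_zero]; rfl
  on_f k := by rw [hg, p.Bu_smul_f, RingEquiv.refl_apply, mul_one]
  perp z h1 h2 := by
    have e : (g : V ≃ₗ[F] V) z = z := by rw [hg, h1, map_zero, zero_smul, add_zero]
    refine ⟨by rw [e, h1], by rw [e, h2], fun k => ?_⟩
    rw [hg, e, B, polar_smul_right', ← B, h1, mul_zero, map_zero, zero_smul, add_zero, RingEquiv.refl_apply]
  norm z h1 _ := by rw [hg, h1, map_zero, zero_smul, add_zero, RingEquiv.refl_apply, one_mul]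

variable [FiniteDimensional K V] {X : Subgroup (O Q)}

/-- The commutator with an Eichler transformation moves everything along the line. -/
theorem Rad.along (hR : S.Rad u g φ) (hX : S.Over X) (hg : g ∈ X) (p : S.Pair u f) {z : V} (hz : S.B u z = 0) :
    ∃ T ∈ X, ∃ ν : K →ₗ[F] K, (∀ x, (T : V ≃ₗ[F] V) x = x + ν (S.B u x) • u) ∧
      ∀ a b : K, S.τ (a * ν b) = S.τ (b * φ (a • z)) - S.τ (a * φ (b • z)) := by
  set E := S.E u z p.su hz with hE
  have hzu : S.B z u = 0 := by rw [B, polar_comm]; exact hz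
  have hfix : ∀ a : K, (E : V ≃ₗ[F] V) (a • u) = a • u := fun a => S.E_smul_self _ _ a
  set T := g * E * g⁻¹ * E⁻¹ with hT
  have hTa : ∀ x, (T : V ≃ₗ[F] V) ((E : V ≃ₗ[F] V) ((g : V ≃ₗ[F] V) x)) =
      (g : V ≃ₗ[F] V) ((E : V ≃ₗ[F] V) x) := fun x => by
    rw [hT, ← mul_app, ← mul_app, ← mul_app, ← Subgroup.coe_mul, ← Subgroup.coe_mul, ← Subgroup.coe_mul]
    congr 2
    group
  have hsmulz : ∀ a : K, S.B u (a • z) = 0 := fun a => by rw [B, polar_smul_right', ← B, hz, mul_zero]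
  have key : ∀ y, ∃ c : K, (T : V ≃ₗ[F] V) y = y + c • u ∧
      ∀ a, S.τ (a * c) = S.τ (S.B u y * φ (a • z)) - S.τ (a * φ (S.B u y • z)) := by
    intro y
    obtain ⟨y', rfl⟩ := (E : V ≃ₗ[F] V).surjective y
    obtain ⟨x, rfl⟩ := (g : V ≃ₗ[F] V).surjective y'
    have hβ : S.B u ((E : V ≃ₗ[F] V) ((g : V ≃ₗ[F] V) x)) = S.B u x := by
      rw [hE, E_app, hR.B_app, B, polar_sub_right, polar_add_right, polar_smul_right', polar_smul_right',
        show polar S.QK u u = 0 from S.B_self p.su, show polar S.QK u z = 0 from hz, ← B, hR.B_app]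
      ring
    refine ⟨S.B z x - S.B z ((g : V ≃ₗ[F] V) x) - φ (S.B u x • z), ?_, fun a => ?_⟩
    · rw [hTa, hE, E_app, E_app, hR.B_app, map_sub, map_add, hR.fix, hR.move _ (hsmulz _)]
      module
    · have h1 : S.τ (a * S.B z x) = S.τ (a * S.B z ((g : V ≃ₗ[F] V) x)) + S.τ (φ (a • z) * S.B u x) := by
        rw [S.tau_B, S.tau_B, ← O.polar_app g (a • z) x, hR.move _ (hsmulz a), polar_add_left, ← hR.B_app x, S.tau_B]
      rw [hβ, mul_sub, mul_sub, map_sub, map_sub, h1, mul_comm (S.B u x)]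
      ring
  have hfixT : ∀ y, S.B u y = 0 → (T : V ≃ₗ[F] V) y = y := fun y hy => by
    obtain ⟨c, hc, hc'⟩ := key y
    have h0 : φ 0 = 0 := by
      have := hR.move 0 (by rw [B, polar_zero_right])
      simp only [map_zero, zero_add] at this
      exact ((smul_eq_zero.1 this.symm).resolve_right p.ne_zero)
    have : c = 0 := S.eq_zero_of_tau fun a => by
      rw [hc', hy, zero_mul, map_zero, zero_smul, h0, mul_zero, map_zero, sub_zero]
    rw [hc, this, zero_smul, add_zero]
  obtain ⟨ν, hν⟩ := exists_linear p hfixT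
  refine ⟨T, X.mul_mem (X.mul_mem (X.mul_mem hg (hX.E_mem _ _)) (X.inv_mem hg)) (X.inv_mem (hX.E_mem _ _)),
    ν, hν, fun a b => ?_⟩
  obtain ⟨c, hc, hc'⟩ := key (b • f)
  rw [hν, p.Bu_smul_f] at hc
  rw [smul_left_injective K p.ne_zero (add_left_cancel hc), hc', p.Bu_smul_f]

/-- A radical element is linear or yields a defect. -/
theorem Rad.linear_or_defect (hR : S.Rad u g φ) (hX : S.Over X) (hg : g ∈ X) (p : S.Pair u f) :
    (∀ (k : K) y, S.B u y = 0 → φ (k • y) = k * φ y) ∨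
      ∃ T ∈ X, ∃ ν : K →ₗ[F] K, ν ≠ 0 ∧ ∀ x, (T : V ≃ₗ[F] V) x = x + ν (S.B u x) • u := by
  by_cases hc : ∀ z, S.B u z = 0 → ∀ a b : K, S.τ (b * φ (a • z)) = S.τ (a * φ (b • z))
  · refine Or.inl fun k y hy => S.eq_of_tau fun s => ?_
    have hky : S.B u (k • y) = 0 := by rw [B, polar_smul_right', ← B, hy, mul_zero]
    have h1 := hc _ hky 1 s
    have h2 := hc y hy 1 (s * k)
    rw [one_smul, one_mul] at h1 h2
    rw [h1, ← mul_assoc, h2, mul_smul]
  · push Not at hc
    obtain ⟨z, hz, a, b, hab⟩ := hc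
    obtain ⟨T, hT, ν, hν, hν'⟩ := hR.along hX hg p hz
    refine Or.inr ⟨T, hT, ν, fun h0 => hab ?_, hν⟩
    have := hν' a b
    rw [h0, LinearMap.zero_apply, mul_zero, map_zero] at this
    exact sub_eq_zero.1 this.symm

omit [IsScalarTower F K V] in
theorem exists_perp_pair (hm : 3 ≤ finrank K V) (p : S.Pair u f) :
    ∃ z y, S.B u z = 0 ∧ S.B f z = 0 ∧ S.B u y = 0 ∧ S.B f y = 0 ∧ S.B z y = 1 := by
  have hW := S.nd.nondeg_hyperbolic_perp p.su p.sf p.uf
  have hr := S.nd.finrank_hyperbolic_perp p.su p.sf p.uf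
  have : Nontrivial (perp S.QK (Submodule.span K {u, f})) :=
    Module.finrank_pos_iff.1 (by omega : 0 < finrank K (perp S.QK (Submodule.span K {u, f})))
  obtain ⟨z, hz⟩ := exists_ne (0 : perp S.QK (Submodule.span K {u, f}))
  obtain ⟨y, hy⟩ := hW.exists_polar_eq hz 1
  rw [polar_restr] at hy
  obtain ⟨h1, h2⟩ := (mem_perp_span_pair S.QK).1 z.2
  obtain ⟨h3, h4⟩ := (mem_perp_span_pair S.QK).1 y.2
  exact ⟨z, y, h1, h2, h3, h4, hy⟩

variable [Finite K]

/-- An isometry that stabilises a line and carries the radical elements into `X` is in normal form, or `X`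
moves along the line. -/
theorem shape_or_along (hm : 3 ≤ finrank K V) (hX : S.Over X) {h : O Q} (p : S.Pair u f)
    (hh : ∀ (z : V) (hz : S.B u z = 0), h * S.E u z p.su hz * h⁻¹ ∈ X)
    (hu : (h : V ≃ₗ[F] V) u = u) (hline : KeepsLine K h u)
    (hnorm : ∀ z, S.B u z = 0 → S.B f z = 0 → S.B z ((h : V ≃ₗ[F] V) f) = 0) :
    (∃ T ∈ X, ∃ ν : K →ₗ[F] K, ν ≠ 0 ∧ ∀ x, (T : V ≃ₗ[F] V) x = x + ν (S.B u x) • u) ∨
      ∃ (σ : K ≃+* K) (e : K) (C : K →ₗ[F] K), S.Shape u f h σ e C := by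
  refine or_iff_not_imp_left.2 fun hcon => ?_
  have hV : Finite V := Module.finite_of_finite K
  -- the map on the line
  let L : K →ₗ[F] K := ((S.QK.polarBilin f).restrictScalars F).comp
    (((h : V ≃ₗ[F] V) : V →ₗ[F] V).comp ((LinearMap.toSpanSingleton K V u).restrictScalars F))
  have hL : ∀ a : K, (h : V ≃ₗ[F] V) (a • u) = L a • u := fun a => by
    obtain ⟨a', ha'⟩ := hline a
    rw [hu] at ha'
    have hLa : L a = a' := by
      show S.B f ((h : V ≃ₗ[F] V) (a • u)) = a'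
      rw [ha', p.Bf_smul_u]
    rw [hLa, ha']
  have hL1 : L 1 = 1 := by
    have := hL 1
    rw [one_smul, hu] at this
    exact smul_left_injective K p.ne_zero (this.symm.trans (one_smul K u).symm)
  have hLinj : Function.Injective L := fun a b hab => by
    have h1 : (h : V ≃ₗ[F] V) (a • u) = (h : V ≃ₗ[F] V) (b • u) := by rw [hL, hL, hab]
    exact smul_left_injective K p.ne_zero ((h : V ≃ₗ[F] V).injective h1)
  have hLsurj : Function.Surjective L := Finite.injective_iff_surjective.1 hLinj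
  have hup : ∀ y, S.B u y = 0 → S.B u ((h : V ≃ₗ[F] V) y) = 0 := fun y hy =>
    S.perp_map (fun a => (hLsurj a).imp fun b hb => by rw [hL, hb]) hy
  have hdown : ∀ y, S.B u ((h : V ≃ₗ[F] V) y) = 0 → S.B u y = 0 := fun y hy =>
    S.perp_map_symm (fun a => ⟨L a, hL a⟩) hy
  have hhinv : ∀ y, (h : V ≃ₗ[F] V) ((h : V ≃ₗ[F] V).symm y) = y := fun y => (h : V ≃ₗ[F] V).apply_symm_apply y
  have hdown' : ∀ y, S.B u y = 0 → S.B u ((h : V ≃ₗ[F] V).symm y) = 0 := fun y hy =>
    hdown _ (by rw [hhinv]; exact hy)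
  -- conjugates of radical elements
  have hlin : ∀ z, S.B u z = 0 → ∀ (k : K) y, S.B u y = 0 →
      L (S.B z ((h : V ≃ₗ[F] V).symm (k • y))) = k * L (S.B z ((h : V ≃ₗ[F] V).symm y)) := by
    intro z hz k y hy
    set E := S.E u z p.su hz with hE
    have hG : ∀ x, ((h * E * h⁻¹ : O Q) : V ≃ₗ[F] V) ((h : V ≃ₗ[F] V) x) = (h : V ≃ₗ[F] V) ((E : V ≃ₗ[F] V) x) :=
      fun x => by rw [← mul_app, ← mul_app, ← Subgroup.coe_mul, ← Subgroup.coe_mul, inv_mul_cancel_right]
    have hR : S.Rad u (h * E * h⁻¹) (fun y => L (S.B z ((h : V ≃ₗ[F] V).symm y))) :=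
      ⟨fun a => by obtain ⟨b, rfl⟩ := hLsurj a; rw [← hL, hG, hE, E_smul_self],
        fun y hy => by
          conv_lhs => rw [← hhinv y, hG, hE, E_app_perp _ _ _ (hdown' y hy), map_add, hL, hhinv]⟩
    rcases hR.linear_or_defect hX (hh z hz) p with h1 | h1
    · exact h1 k y hy
    · exact absurd h1 hcon
  -- the map on the line is multiplicative
  obtain ⟨z₀, y₁, hz₀, hz₀f, hy₁, hy₁f, hzy⟩ := exists_perp_pair hm p
  have hmul : ∀ a b : K, L (a * b) = L a * L b := by
    intro a b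
    have hy₀ := hup y₁ hy₁
    have hz : ∀ c : K, S.B u (c • z₀) = 0 := fun c => by rw [B, polar_smul_right', ← B, hz₀, mul_zero]
    have h1 := hlin _ (hz 1) (L a) _ hy₀
    have h2 := hlin _ (hz b) (L a) _ hy₀
    rw [one_smul, B, LinearEquiv.symm_apply_apply, show S.B z₀ y₁ = 1 from hzy, hL1, mul_one] at h1
    rw [B, B, LinearEquiv.symm_apply_apply, polar_smul_left', polar_smul_left', hLinj h1,
      show polar S.QK z₀ y₁ = 1 from hzy, mul_one, mul_comm b] at h2
    exact h2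
  let σ : K ≃+* K := RingEquiv.ofBijective
    ({ toFun := L, map_one' := hL1, map_mul' := hmul, map_zero' := map_zero L, map_add' := map_add L } : K →+* K)
    ⟨hLinj, hLsurj⟩
  have hσ : ∀ a, σ a = L a := fun a => rfl
  -- the multiplier
  set e := S.B u ((h : V ≃ₗ[F] V) f) with he
  have htau : ∀ x, S.τ (e * σ x) = S.τ x := fun x => by
    have := O.polar_app h (x • u) f
    rw [hL, S.f_eq, S.f_eq, B, B, polar_smul_left', polar_smul_left', show polar S.QK u f = 1 from p.uf, mul_one] at this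
    rw [mul_comm, hσ]
    exact this
  have he0 : e ≠ 0 := fun h0 => by
    obtain ⟨k, hk⟩ := S.exists_tau_ne
    exact hk (by rw [← htau k, h0, zero_mul, map_zero])
  have hBu : ∀ x, S.B u ((h : V ≃ₗ[F] V) x) = e * σ (S.B u x) := fun x => S.eq_of_tau fun s => by
    obtain ⟨a, rfl⟩ := hLsurj s
    rw [S.tau_B, ← hL, O.polar_app, ← S.tau_B, ← htau, map_mul σ, hσ a]
    congr 1
    ring
  -- semilinearity modulo the line
  have hsemi : ∀ (k : K) y, S.B u y = 0 → ∃ c : K, (h : V ≃ₗ[F] V) (k • y) = σ k • (h : V ≃ₗ[F] V) y + c • u := by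
    intro k y hy
    have hd : ∀ z, S.B u z = 0 →
        S.B (k • y - (h : V ≃ₗ[F] V).symm (σ k • (h : V ≃ₗ[F] V) y)) z = 0 := fun z hz => by
      have h1 := hlin z hz (σ k) _ (hup y hy)
      rw [LinearEquiv.symm_apply_apply, hσ, ← hmul] at h1
      rw [hσ, B, polar_sub_left, polar_comm (⇑S.QK) _ z, polar_comm (⇑S.QK) _ z, polar_smul_right', ← B, ← B, hLinj h1,
        sub_self]
    have h2 := congrArg (h : V ≃ₗ[F] V) (p.eq_smul_of_perp hd)
    rw [map_sub, hhinv, hL] at h2
    exact ⟨_, by linear_combination (norm := module) h2⟩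
  have hBB : ∀ y y', S.B u y = 0 → S.B u y' = 0 →
      S.B ((h : V ≃ₗ[F] V) y) ((h : V ≃ₗ[F] V) y') = e * σ (S.B y y') := fun y y' hy hy' => S.eq_of_tau fun s => by
    obtain ⟨a, rfl⟩ := hLsurj s
    obtain ⟨c, hc⟩ := hsemi a y hy
    have h1 : polar Q (L a • (h : V ≃ₗ[F] V) y) ((h : V ≃ₗ[F] V) y') = polar Q (a • y) y' := by
      rw [← O.polar_app h (a • y), hc, polar_add_left, S.f_eq (c • u), B, polar_smul_left', ← B, hup y' hy', mul_zero,
        map_zero, add_zero, hσ]
    rw [S.tau_B, h1, ← S.tau_B, ← htau, map_mul σ, hσ a]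
    congr 1
    ring
  have hQK : ∀ y, S.B u y = 0 → S.QK ((h : V ≃ₗ[F] V) y) = e * σ (S.QK y) := fun y hy => by
    have h1 := hBB y y hy hy
    rw [B, B, polar_self', polar_self', map_mul, map_ofNat] at h1
    exact mul_left_cancel₀ S.two (by rw [h1]; ring)
  -- the image of the orthogonal space of the pair
  have hperp : ∀ z, S.B u z = 0 → S.B f z = 0 →
      S.B u ((h : V ≃ₗ[F] V) z) = 0 ∧ S.B f ((h : V ≃ₗ[F] V) z) = 0 ∧
      ∃ z', (h : V ≃ₗ[F] V) z = e • z' ∧ S.B u z' = 0 ∧ S.B f z' = 0 ∧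
        ∀ k : K, (h : V ≃ₗ[F] V) (k • z) =
          σ k • (h : V ≃ₗ[F] V) z - S.B z' ((h : V ≃ₗ[F] V) (k • f)) • u := by
    intro z hzu hzf
    set E := S.E u z p.su hzu with hE
    set G := h * E * h⁻¹ with hGd
    have hG : ∀ x, (G : V ≃ₗ[F] V) ((h : V ≃ₗ[F] V) x) = (h : V ≃ₗ[F] V) ((E : V ≃ₗ[F] V) x) :=
      fun x => by rw [hGd, ← mul_app, ← mul_app, ← Subgroup.coe_mul, ← Subgroup.coe_mul, inv_mul_cancel_right]
    let pr : V →ₗ[K] V := LinearMap.id - (S.QK.polarBilin u).smulRight f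
    have hpr : ∀ y, S.B u (pr y) = 0 := fun y => by
      show S.B u (y - S.B u y • f) = 0
      rw [B, polar_sub_right, ← B, ← B, p.Bu_smul_f, sub_self]
    let ψ : V →ₗ[K] K :=
      { toFun := fun y => L (S.B z ((h : V ≃ₗ[F] V).symm (pr y)))
        map_add' := fun a b => by rw [map_add, map_add, B, polar_add_right, map_add]
        map_smul' := fun k y => by rw [map_smul, hlin z hzu k _ (hpr y), RingHom.id_apply, smul_eq_mul] }
    have hpu : pr u = u := by show u - S.B u u • f = u; rw [p.uu, zero_smul, sub_zero]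
    have hpf : pr f = 0 := by show f - S.B u f • f = 0; rw [p.uf, one_smul, sub_self]
    obtain ⟨z', hz'u, hz'f, hz'⟩ := p.exists_rep_perp ψ
      (by show L (S.B z ((h : V ≃ₗ[F] V).symm (pr u))) = 0
          rw [hpu, show (h : V ≃ₗ[F] V).symm u = u from (LinearEquiv.symm_apply_eq _).2 hu.symm, B, polar_comm, ← B, hzu,
            map_zero])
      (by show L (S.B z ((h : V ≃ₗ[F] V).symm (pr f))) = 0
          rw [hpf, map_zero, B, polar_zero_right, map_zero])
    set E' := S.E u z' p.su hz'u with hE'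
    -- the difference fixes the orthogonal space, hence is trivial
    have hfix : ∀ y, S.B u y = 0 → ((E'⁻¹ * G : O Q) : V ≃ₗ[F] V) y = y := fun y hy => by
      apply (E' : V ≃ₗ[F] V).injective
      rw [← mul_app, ← Subgroup.coe_mul, mul_inv_cancel_left, hE', E_app_perp _ _ _ hy]
      conv_lhs => rw [← hhinv y, hG, hE, E_app_perp _ _ _ (hdown' y hy), map_add, hL, hhinv]
      rw [hz']
      show y + L _ • u = y + L (S.B z ((h : V ≃ₗ[F] V).symm (y - S.B u y • f))) • u
      rw [hy, zero_smul, sub_zero]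
    obtain ⟨ν, hν⟩ := exists_linear p hfix
    have hν0 : ν = 0 := by
      by_contra hν0
      exact hcon ⟨_, X.mul_mem (X.inv_mem (hX.E_mem _ _)) (hh z hzu), ν, hν0, hν⟩
    have heq : ∀ x, (h : V ≃ₗ[F] V) ((E : V ≃ₗ[F] V) x) = (E' : V ≃ₗ[F] V) ((h : V ≃ₗ[F] V) x) := fun x => by
      rw [← hG]
      have := hν ((h : V ≃ₗ[F] V) x)
      rw [hν0, LinearMap.zero_apply, zero_smul, add_zero] at this
      conv_rhs => rw [← this, ← mul_app, ← Subgroup.coe_mul, mul_inv_cancel_left]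
    -- on the orthogonal space
    have hd : ∀ y, S.B u y = 0 → S.B ((h : V ≃ₗ[F] V) z - e • z') y = 0 := fun y hy => by
      have h1 := heq ((h : V ≃ₗ[F] V).symm y)
      rw [hhinv, hE, hE', E_app_perp _ _ _ (hdown' y hy), E_app_perp _ _ _ hy, map_add, hhinv, hL, add_right_inj] at h1
      have h2 : S.B z' y = L (S.B z ((h : V ≃ₗ[F] V).symm y)) := (smul_left_injective K p.ne_zero h1).symm
      have h3 := hBB z _ hzu (hdown' y hy)
      rw [hhinv] at h3
      rw [B, polar_sub_left, polar_smul_left', ← B, ← B, h3, h2, hσ, sub_self]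
    have hdec := p.eq_smul_of_perp hd
    -- on the second vector
    have hk : ∀ k : K, (h : V ≃ₗ[F] V) (k • f) + L (-(k * S.QK z)) • u - (h : V ≃ₗ[F] V) (k • z) =
        (h : V ≃ₗ[F] V) (k • f) + (S.B z' ((h : V ≃ₗ[F] V) (k • f)) - S.QK z' * (e * σ k)) • u - (e * σ k) • z' := by
      intro k
      have h1 := heq (k • f)
      rw [hE, hE', E_app, E_app, hBu, p.Bu_smul_f, B, polar_smul_right', polar_comm (⇑S.QK) z f,
        show polar S.QK f z = 0 from hzf, mul_zero, zero_sub, map_sub, map_add, hL, mul_comm (S.QK z)] at h1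
      exact h1
    have h1 := hk 1
    rw [one_smul, one_smul, one_mul, map_one, mul_one, map_neg, hnorm z' hz'u hz'f, zero_sub, neg_smul, neg_smul] at h1
    set c := S.B f ((h : V ≃ₗ[F] V) z - e • z') with hc
    have hhz : (h : V ≃ₗ[F] V) z = e • z' + c • u := by linear_combination (norm := module) hdec
    have hQz : e * σ (S.QK z) = e * e * S.QK z' := by
      rw [← hQK z hzu, hhz, map_add_polar, qmap_smul, qmap_smul, p.su, polar_smul_left', polar_smul_right',
        polar_comm (⇑S.QK) z' u, show polar S.QK u z' = 0 from hz'u]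
      ring
    have hσQ : L (S.QK z) = e * S.QK z' := by
      rw [← hσ]; exact mul_left_cancel₀ he0 (by rw [hQz]; ring)
    have hhz' : (h : V ≃ₗ[F] V) z = e • z' := by
      rw [hσQ] at h1
      linear_combination (norm := module) -h1
    refine ⟨hup z hzu, by rw [hhz', B, polar_smul_right', show polar S.QK f z' = 0 from hz'f, mul_zero],
      z', hhz', hz'u, hz'f, fun k => ?_⟩
    have h2 := hk k
    rw [map_neg, hmul, hσQ, ← hσ k] at h2
    rw [hhz']
    linear_combination (norm := module) -h2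
  have hsur : ∀ z, S.B u z = 0 → S.B f z = 0 →
      ∃ y, S.B u y = 0 ∧ S.B f y = 0 ∧ (h : V ≃ₗ[F] V) y = z := by
    let W : Type _ := {z : V // S.B u z = 0 ∧ S.B f z = 0}
    let F' : W → W := fun z => ⟨(h : V ≃ₗ[F] V) z, (hperp z z.2.1 z.2.2).1, (hperp z z.2.1 z.2.2).2.1⟩
    have hF' : Function.Surjective F' := Finite.injective_iff_surjective.1 fun a b hab =>
      Subtype.ext ((h : V ≃ₗ[F] V).injective (congrArg Subtype.val hab))
    intro z hzu hzf
    obtain ⟨y, hy⟩ := hF' ⟨z, hzu, hzf⟩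
    exact ⟨y, y.2.1, y.2.2, congrArg Subtype.val hy⟩
  have hkf : ∀ (k : K) z, S.B u z = 0 → S.B f z = 0 → S.B z ((h : V ≃ₗ[F] V) (k • f)) = 0 := fun k z hzu hzf => by
    refine S.eq_zero_of_tau fun a => ?_
    obtain ⟨y, hyu, hyf, hy⟩ := hsur (a • z) (by rw [B, polar_smul_right', ← B, hzu, mul_zero])
      (by rw [B, polar_smul_right', ← B, hzf, mul_zero])
    rw [B, ← polar_smul_left', ← B, ← S.f_eq, ← hy, O.polar_app, S.f_eq, B, polar_smul_right', polar_comm,
      show polar S.QK f y = 0 from hyf, mul_zero, map_zero]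
  let C : K →ₗ[F] K := ((S.QK.polarBilin f).restrictScalars F).comp
    (((h : V ≃ₗ[F] V) : V →ₗ[F] V).comp ((LinearMap.toSpanSingleton K V f).restrictScalars F))
  have hs : S.Shape u f h σ e C :=
    { tau := htau
      on_u := hL
      on_f := fun k => by
        obtain ⟨w, hwu, hwf, hw⟩ := p.dec ((h : V ≃ₗ[F] V) (k • f))
        have hw0 : w = 0 := S.nd w fun y => by
          obtain ⟨y', hy'u, hy'f, hy⟩ := p.dec y
          have h1 := hkf k y' hy'u hy'f
          rw [hw, B, polar_add_right, polar_add_right, polar_smul_right', polar_smul_right', polar_comm (⇑S.QK) y' u,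
            polar_comm (⇑S.QK) y' f, show polar S.QK u y' = 0 from hy'u, show polar S.QK f y' = 0 from hy'f, mul_zero,
            mul_zero, zero_add, zero_add, polar_comm] at h1
          rw [hy, polar_add_right, polar_add_right, polar_smul_right', polar_smul_right', polar_comm (⇑S.QK) w u,
            polar_comm (⇑S.QK) w f, show polar S.QK u w = 0 from hwu, show polar S.QK f w = 0 from hwf, h1]
          ring
        rw [hw0, add_zero, hBu, p.Bu_smul_f, add_comm, mul_comm e] at hw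
        exact hw
      perp := fun z hzu hzf => by
        obtain ⟨h1, h2, z', hzz, hz'u, hz'f, h3⟩ := hperp z hzu hzf
        refine ⟨h1, h2, fun k => ?_⟩
        rw [h3, hkf k z' hz'u hz'f, zero_smul, sub_zero]
      norm := fun z hzu _ => hQK z hzu }
  exact ⟨σ, e, C, hs⟩

/-- An isometry outside the normaliser that stabilises a line, normalised on the second vector. -/
theorem exists_shape_of_norm (hm : 3 ≤ finrank K V) (hX : S.Over X) {h : O Q} (hh : h ∈ X) (p : S.Pair u f)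
    (hu : (h : V ≃ₗ[F] V) u = u) (hline : KeepsLine K h u) (hns : ¬Semi K h)
    (hnorm : ∀ z, S.B u z = 0 → S.B f z = 0 → S.B z ((h : V ≃ₗ[F] V) f) = 0) :
    ∃ h' ∈ X, ∃ (σ : K ≃+* K) (e : K) (C : K →ₗ[F] K), C ≠ 0 ∧ S.Shape u f h' σ e C := by
  rcases shape_or_along hm hX p (fun z hz => X.mul_mem (X.mul_mem hh (hX.E_mem _ _)) (X.inv_mem hh)) hu hline hnorm with
    ⟨T, hT, ν, hν, hT'⟩ | ⟨σ, e, C, hs⟩
  · exact ⟨T, hT, _, 1, ν, hν, shape_of_along p hT'⟩
  · exact ⟨h, hh, σ, e, C, fun hC => hns (hs.semi p hC), hs⟩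

omit [Finite K] [FiniteDimensional K V] in
/-- A radical element normalises an isometry stabilising a line on the second vector. -/
theorem exists_normalise {h : O Q} (p : S.Pair u f) (hu : (h : V ≃ₗ[F] V) u = u) (hline : KeepsLine K h u) :
    ∃ (z : V) (hz : S.B u z = 0), ((S.E u z p.su hz * h : O Q) : V ≃ₗ[F] V) u = u ∧
      KeepsLine K (S.E u z p.su hz * h) u ∧ ∀ w, S.B u w = 0 → S.B f w = 0 →
        S.B w (((S.E u z p.su hz * h : O Q) : V ≃ₗ[F] V) f) = 0 := by
  set e := S.B u ((h : V ≃ₗ[F] V) f) with he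
  have hline' : ∀ a : K, ∃ a' : K, (h : V ≃ₗ[F] V) (a • u) = a' • u := fun a => by
    obtain ⟨a', ha'⟩ := hline a
    exact ⟨a', by rw [ha', hu]⟩
  have he0 : e ≠ 0 := fun h0 => by
    have := S.perp_map_symm hline' h0
    rw [p.uf] at this
    exact one_ne_zero this
  obtain ⟨p₀, hp₀u, hp₀f, hp⟩ := p.dec ((h : V ≃ₗ[F] V) f)
  have hz : S.B u (e⁻¹ • p₀) = 0 := by rw [B, polar_smul_right', ← B, hp₀u, mul_zero]
  set E := S.E u (e⁻¹ • p₀) p.su hz with hE
  have hE1 : ∀ a : K, (E : V ≃ₗ[F] V) (a • u) = a • u := fun a => S.E_smul_self _ _ a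
  refine ⟨_, hz, ?_, fun a => ?_, fun z hzu hzf => ?_⟩
  · rw [Subgroup.coe_mul, mul_app, hu]
    simpa using hE1 1
  · obtain ⟨a', ha'⟩ := hline a
    refine ⟨a', ?_⟩
    rw [Subgroup.coe_mul, mul_app, mul_app, ha', E_semi]
  · rw [Subgroup.coe_mul, mul_app, E_app, ← he]
    simp only [B, polar_sub_right, polar_add_right, polar_smul_right', polar_comm (⇑S.QK) z u,
      show polar S.QK u z = 0 from hzu, mul_zero, add_zero, smul_smul, mul_inv_cancel₀ he0, one_mul]
    rw [← B, hp]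
    simp only [B, polar_add_right, polar_smul_right', polar_comm (⇑S.QK) z u, polar_comm (⇑S.QK) z f,
      show polar S.QK u z = 0 from hzu, show polar S.QK f z = 0 from hzf]
    ring

/-- An isometry outside the normaliser that stabilises a singular line yields one in normal form with a defect. -/
theorem exists_shape (hm : 3 ≤ finrank K V) (hX : S.Over X) {h : O Q} (hh : h ∈ X) (p : S.Pair u f)
    (hu : (h : V ≃ₗ[F] V) u = u) (hline : KeepsLine K h u) (hns : ¬Semi K h) :
    ∃ h' ∈ X, ∃ (σ : K ≃+* K) (e : K) (C : K →ₗ[F] K), C ≠ 0 ∧ S.Shape u f h' σ e C := by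
  obtain ⟨z, hz, h1, h2, h3⟩ := exists_normalise p hu hline
  exact exists_shape_of_norm hm hX (X.mul_mem (hX.E_mem p.su hz) hh) p h1 h2 (fun h' => hns (semi_E_mul _ _ h')) h3

end EStr

end Cfsg.Agent.H57.ExtOrth
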